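import Groth.Agent.Lib.PBC24.Reductions
import Groth.Agent.Lib.EtShriek24.Compactification
import Groth.Agent.Lib.BCInj6.Compose
import Groth.Agent.Lib.RDComp.Post
import Groth.Agent.Lib.EtStalk.Finite
import Groth.Agent.Lib.EtStalk.OpenImm
import Groth.Agent.Lib.AcyclicSum8.Sum

/-!
# Cohomology of finite direct images and of sums
-/

set_option autoImplicit false
set_option linter.style.haveILetI false
set_option linter.unusedSectionVars false
set_option backward.isDefEq.respectTransparency false
set_option backward.isDefEq.respectTransparency.types false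

universe u

open CategoryTheory CategoryTheory.Limits AlgebraicGeometry Opposite

namespace Groth.Agent.PBCShriek6

open Groth.Agent.EtStalk

variable {X Y Z : Scheme.{u}}

/-- An exact functor has no higher derived functors. -/
theorem isZero_rightDerived_of_exact {A B : Type*} [Category A] [Abelian A] [HasInjectiveResolutions A]
    [Category B] [Abelian B] (F : A ⥤ B) [F.Additive] [F.PreservesHomology] (M : A) (q : ℕ) (hq : 0 < q) :
    IsZero ((F.rightDerived q).obj M) := by
  obtain ⟨q, rfl⟩ := Nat.exists_eq_succ_of_ne_zero hq.ne'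
  let R := injectiveResolution M
  exact IsZero.of_iso (ShortComplex.exact_iff_isZero_homology _ |>.1 ((R.cocomplex_exactAt_succ q).map F))
    (R.isoRightDerivedObj F (q + 1))

/-- Direct image along a finite morphism has no higher derived functors. -/
theorem isZero_Rpush_finite (b : X ⟶ Y) [IsFinite b] (M : EtCoh.Ab X) (q : ℕ) (hq : 0 < q) :
    IsZero ((EtCoh.Rpush b q).obj M) := by
  haveI := EtStalk.preservesFiniteColimits_push_integral b
  haveI : PreservesLimitsOfSize.{0, 0} (EtCoh.push b) := (EtCoh.pullPushAdj b).rightAdjoint_preservesLimits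
  haveI : (EtCoh.push b).PreservesHomology := inferInstance
  exact isZero_rightDerived_of_exact _ M q hq

/-- Higher direct images after a finite morphism. -/
theorem isZero_Rpush_comp_finite (π : X ⟶ Y) (v : Y ⟶ Z) [IsFinite v] (M : EtCoh.Ab X) (q : ℕ)
    (h : IsZero ((EtCoh.Rpush π q).obj M)) : IsZero ((EtCoh.Rpush (π ≫ v) q).obj M) := by
  haveI := EtStalk.preservesFiniteColimits_push_integral v
  haveI : PreservesLimitsOfSize.{0, 0} (EtCoh.push v) := (EtCoh.pullPushAdj v).rightAdjoint_preservesLimits
  haveI : (EtCoh.push v).PreservesHomology := inferInstance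
  exact ((EtCoh.push v).map_isZero h).of_iso
    (((RDer.rightDerivedIso (EtCoh.pushComp v π) q).app M).symm ≪≫
      (RDComp.rightDerivedPostIso (EtCoh.push π) (EtCoh.push v) q).app M)

/-- Cohomology of a finite direct image over a separably closed field vanishes with the higher direct image. -/
theorem subsingleton_H_push_finite {K : Type u} [Field K] [IsSepClosed K] {W P : Scheme.{u}} (b : W ⟶ P)
    [IsFinite b] (a : P ⟶ Spec (CommRingCat.of K)) (G : EtCoh.Ab W) (q : ℕ)
    (h : IsZero ((EtCoh.Rpush (b ≫ a) q).obj G)) : Subsingleton (EtCoh.H P ((EtCoh.push b).obj G) q) := by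
  have hB : PointLim24.IsSplit K K := fun x p hp => ⟨1, x, IsIdempotentElem.one,
    fun h1 => hp.ne_top ((Ideal.eq_top_iff_one p).2 h1), by simp⟩
  obtain ⟨e⟩ := BCInj6.nonempty_Rpush_comp b a G (fun p hp => isZero_Rpush_finite b G p hp) q
  exact (PointLim24.isZero_Rpush_iff hB a _ q).1 (h.of_iso e)

/-- Cohomology commutes with sums. -/
theorem preservesColimit_HF (X : Scheme.{u}) [CompactSpace X] [QuasiSeparatedSpace X] (q : ℕ) {ι : Type u}
    (K : ι → EtCoh.Ab X) : PreservesColimit (Discrete.functor K) (EtCoh.HF X q) := by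
  classical
  haveI : IsFiltered (Finset (Discrete ι)) := inferInstance
  haveI := EtColim.preservesColimitsOfShape_HF_small X q (Finset (Discrete ι))
  exact AcyclicSum8.preservesColimit_discrete (EtCoh.HF X q) K

/-- A sum of sheaves without cohomology has none. -/
theorem subsingleton_H_sigma (X : Scheme.{u}) [CompactSpace X] [QuasiSeparatedSpace X] (q : ℕ) {ι : Type u}
    (K : ι → EtCoh.Ab X) (h : ∀ i, Subsingleton (EtCoh.H X (K i) q)) : Subsingleton (EtCoh.H X (∐ K) q) := by
  haveI := preservesColimit_HF X q K
  have hz : IsZero (∐ fun i => (EtCoh.HF X q).obj (K i)) := by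
    rw [IsZero.iff_id_eq_zero]
    refine Sigma.hom_ext _ _ fun i => ?_
    haveI := h i
    exact (AddCommGrpCat.isZero_iff_subsingleton.2 (h i)).eq_of_src _ _
  exact AddCommGrpCat.isZero_iff_subsingleton.1 (hz.of_iso (PreservesCoproduct.iso (EtCoh.HF X q) K))

/-- Cohomology only depends on the sheaf up to isomorphism. -/
theorem subsingleton_H_of_iso {F G : EtCoh.Ab X} (e : F ≅ G) (q : ℕ) (h : Subsingleton (EtCoh.H X G q)) :
    Subsingleton (EtCoh.H X F q) :=
  ((EtCoh.HF X q).mapIso e).addCommGroupIsoToAddEquiv.toEquiv.subsingleton_congr.2 h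

end Groth.Agent.PBCShriek6
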