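import Groth.Agent.Lib.PBCShriek6.Indep
import Groth.Agent.Lib.PBC24.CdRpush
import Groth.Agent.Lib.FibDim14.Semicont
import Groth.Agent.Lib.DerTrunc.Basic

/-!
# Boundedness of derived direct images with proper support
-/

set_option autoImplicit false
set_option linter.style.haveILetI false
set_option linter.unusedSectionVars false
set_option backward.isDefEq.respectTransparency false
set_option backward.isDefEq.respectTransparency.types false

universe u

open CategoryTheory CategoryTheory.Limits AlgebraicGeometry Opposite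
open CategoryTheory.Pretriangulated CategoryTheory.Triangulated DerivedCategory.TStructure

namespace Groth.Agent.PBCShriek6

attribute [local instance] HasDerivedCategory.standard

open Groth.Agent.EtStalk Groth.Agent.BcMapQ6

/-- The fibre dimension of a morphism of finite type is bounded. -/
theorem exists_fibre_dim_le {X Y : Scheme.{u}} (f : X ⟶ Y) [LocallyOfFiniteType f] [CompactSpace X] :
    ∃ n : ℕ, ∀ y : Y, topologicalKrullDim (f.fiber y) ≤ n := by
  let U : ℕ → Set X := fun n => {x | FlatMor.fibreDimAt f x ≤ (n : WithBot ℕ∞)}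
  have hmono : Monotone U := fun a b hab x (hx : FlatMor.fibreDimAt f x ≤ _) =>
    le_trans hx (by exact_mod_cast hab)
  have hcov : (Set.univ : Set X) ⊆ ⋃ n, U n := fun x _ => by
    obtain ⟨x', -, -, hd, -⟩ := FibDim14.exists_fibreDimAt_eq f x
    exact Set.mem_iUnion.2 ⟨FibDim14.rd f x', hd.le⟩
  obtain ⟨n, hn⟩ := isCompact_univ.elim_directed_cover U (fun n => FibDim14.isOpen_fibreDimAt_le f n) hcov
    hmono.directed_le
  refine ⟨n, fun y => ?_⟩
  haveI : LocallyOfFiniteType (f.fiberToSpecResidueField y) :=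
    inferInstanceAs (LocallyOfFiniteType (pullback.snd f (Y.fromSpecResidueField y)))
  rw [VarDim.dim_eq_iSup_sdim (f.fiberToSpecResidueField y)]
  refine iSup_le fun z => ?_
  have h1 := (FibDim14.fibreDimAt_le_iff f).1 (hn (Set.mem_univ (f.fiberι y z))) _ specializes_rfl rfl
  rw [FibDim14.rd_fiberι] at h1
  exact_mod_cast h1

variable {X Y : Scheme.{u}} (f : X ⟶ Y) [DCoh.HasRpushEt X f] (N : ℕ)
  (hN : ∀ (F : EtCoh.Ab X), EtCoh.IsTorsion F → ∀ q : ℕ, N < q → IsZero ((EtCoh.Rpush f q).obj F))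

local notation "t" => DerivedCategory.TStructure.t

include hN in
/-- A concentrated object. -/
theorem isZero_above_concentrated (O : DCoh.DEt X) (m : ℤ) (_ : O.IsGE m) (_ : O.IsLE m)
    (hO : ∀ i, EtCoh.IsTorsion (DCoh.HDEt O i)) (i : ℤ) (hi : m + N < i) :
    IsZero (DCoh.HDEt ((DCoh.RpushEt X f).obj O) i) := by
  obtain ⟨M, ⟨e⟩⟩ := DerivedCategory.exists_iso_singleFunctor_obj_of_isGE_of_isLE O m
  have hM : EtCoh.IsTorsion M := EtColim.isTorsion_of_iso
    ((DerivedCategory.homologyFunctor _ m).mapIso e ≪≫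
      (DerivedCategory.singleFunctorCompHomologyFunctorIso _ m).app M) (hO m)
  obtain ⟨q, rfl⟩ : ∃ q : ℕ, i = m + q := ⟨(i - m).toNat, by omega⟩
  obtain ⟨h⟩ := nonempty_homology_RpushEt_shift f M m q
  exact ((hN M hM q (by omega)).of_iso h).of_iso
    ((DerivedCategory.homologyFunctor _ _).mapIso ((DCoh.RpushEt X f).mapIso e))

include hN in
/-- A bounded object. -/
theorem isZero_above_bounded (k : ℕ) : ∀ (O : DCoh.DEt X) (a : ℤ), O.IsGE a → O.IsLE (a + k) →
    (∀ i, EtCoh.IsTorsion (DCoh.HDEt O i)) → ∀ i : ℤ, a + k + N < i →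
      IsZero (DCoh.HDEt ((DCoh.RpushEt X f).obj O) i) := by
  haveI : PreservesFiniteLimits (EtCoh.pull f) := EtStalk.preservesFiniteLimits_pull f
  haveI : (EtCoh.pull f).Additive := (EtCoh.pullPushAdj f).left_adjoint_additive
  obtain ⟨adj⟩ := nonempty_adj f
  haveI : PreservesFiniteColimits (EtCoh.pull f) :=
    haveI : (EtCoh.pull f).IsLeftAdjoint := (EtCoh.pullPushAdj f).isLeftAdjoint
    inferInstance
  letI := adj.rightAdjointCommShift ℤ
  haveI := adj.commShift_of_leftAdjoint ℤ
  haveI := adj.isTriangulated_rightAdjoint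
  induction k with
  | zero =>
    intro O a ha hb h i hi
    exact isZero_above_concentrated f N hN O a ha (by simpa using hb) h i (by simpa using hi)
  | succ k ih =>
    intro O a ha hb h i hi
    obtain ⟨b, hbdef⟩ : ∃ b : ℤ, a + (k + 1 : ℕ) = b := ⟨_, rfl⟩
    rw [hbdef] at hb hi
    let T := ((t).triangleLTGE b).obj O
    have hL : DerivedCategory.IsLE T.obj₁ (a + k) := (t).isLE_truncLT_obj O b (a + k) (by lia)
    have hG : DerivedCategory.IsGE T.obj₁ a := (inferInstance : (t).IsGE (((t).truncLT b).obj O) a)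
    have hG₃ : DerivedCategory.IsGE T.obj₃ b := (inferInstance : (t).IsGE (((t).truncGE b).obj O) b)
    have hL₃ : DerivedCategory.IsLE T.obj₃ b := (inferInstance : (t).IsLE (((t).truncGE b).obj O) b)
    have h₁ : ∀ q, EtCoh.IsTorsion (DCoh.HDEt T.obj₁ q) := fun q => by
      by_cases hq : q < b
      · have := DerTrunc.isIso_homology_truncLTι O b q hq
        exact EtColim.isTorsion_of_iso
          (asIso ((DerivedCategory.homologyFunctor _ q).map (((t).truncLTι b).app O))).symm (h q)
      · exact isTorsion_of_isZero (DerivedCategory.isZero_of_isLE T.obj₁ (a + k) q (by lia))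
    have h₃ : ∀ q, EtCoh.IsTorsion (DCoh.HDEt T.obj₃ q) := fun q => by
      by_cases hq : b ≤ q
      · have := DerTrunc.isIso_homology_truncGEπ O b q hq
        exact EtColim.isTorsion_of_iso
          (asIso ((DerivedCategory.homologyFunctor _ q).map (((t).truncGEπ b).app O))) (h q)
      · exact isTorsion_of_isZero (DerivedCategory.isZero_of_isGE T.obj₃ b q (by lia))
    exact ((DCoh.RpushEt X f ⋙ DerivedCategory.homologyFunctor (EtCoh.Ab Y) i).map_distinguished_exact T
      ((t).triangleLTGE_distinguished b O)).isZero_X₂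
      ((ih _ a hG hL h₁ i (by lia)).eq_of_src _ _)
      ((isZero_above_concentrated f N hN _ b hG₃ hL₃ h₃ i hi).eq_of_tgt _ _)
where
  isTorsion_of_isZero {G : EtCoh.Ab X} (hG : IsZero G) : EtCoh.IsTorsion G :=
    FieldH25.isTorsion_of_nsmul_id_eq_zero G Nat.one_pos (hG.eq_of_src _ _)

omit [DCoh.HasRpushEt X f] in
/-- Boundedness (S0770). -/
theorem exists_bound (g : X ⟶ Y) [CompactSpace Y] [QuasiSeparatedSpace Y] (c : DEt.Compactification g)
    [PreservesFiniteLimits (EtShriek.extZero c.j)] [DCoh.HasRpushEt c.Xbar c.fbar] :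
    ∃ N : ℕ, ∀ (E : DCoh.DEt X), (∀ n : ℤ, EtCoh.IsTorsion (DCoh.HDEt E n)) → ∀ a b : ℤ,
      (∀ i : ℤ, i < a ∨ b < i → IsZero (DCoh.HDEt E i)) →
        ∀ i : ℤ, i < a ∨ b + N < i → IsZero (DCoh.HDEt ((DEt.Rshriek c).obj E) i) := by
  haveI : CompactSpace c.Xbar := QuasiCompact.compactSpace_of_compactSpace c.fbar
  obtain ⟨n, hn⟩ := exists_fibre_dim_le c.fbar
  refine ⟨2 * n, fun E hE a b hab i hi => ?_⟩
  haveI hGE : E.IsGE a := (DerivedCategory.isGE_iff E a).2 fun m hm => hab m (Or.inl hm)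
  haveI hGE' : ((DEt.extZeroD c.j).obj E).IsGE a := WayOut.isGE_mapDerivedCategory (EtShriek.extZero c.j) E a
  rcases hi with hi | hi
  · haveI := isGE_RpushEt' c.fbar ((DEt.extZeroD c.j).obj E) a
    exact DerivedCategory.isZero_of_isGE ((DCoh.RpushEt c.Xbar c.fbar).obj ((DEt.extZeroD c.j).obj E)) a i hi
  by_cases hab' : a ≤ b
  · haveI : E.IsLE b := (DerivedCategory.isLE_iff E b).2 fun m hm => hab m (Or.inr hm)
    obtain ⟨k, rfl⟩ : ∃ k : ℕ, b = a + k := ⟨(b - a).toNat, by omega⟩
    exact isZero_above_bounded c.fbar (2 * n)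
      (fun F hF q hq => PBC24.isZero_Rpush_of_dim PBC24.properBC c.fbar n hn F hF q hq) k
      ((DEt.extZeroD c.j).obj E) a hGE' (WayOut.isLE_mapDerivedCategory (EtShriek.extZero c.j) E _)
      (isTorsion_extZeroD c.j hE) i (by omega)
  · have hz : IsZero E := isZero_of_homology' E fun m => hab m (by omega)
    obtain ⟨a'⟩ := nonempty_adj c.fbar
    haveI := a'.right_adjoint_additive
    exact (DerivedCategory.homologyFunctor _ i).map_isZero ((DEt.Rshriek c).map_isZero hz)
where
  isZero_of_homology' {Z : Scheme.{u}} (K : DCoh.DEt Z) (h : ∀ m : ℤ, IsZero (DCoh.HDEt K m)) : IsZero K := by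
    have h0 : IsIso (0 : K ⟶ K) := (DerivedCategory.isIso_iff _ _).2 fun m =>
      isIso_of_source_target_iso_zero _ (h m).isoZero (h m).isoZero
    rw [IsZero.iff_id_eq_zero, ← IsIso.hom_inv_id (0 : K ⟶ K), zero_comp]
  isGE_RpushEt' {A B : Scheme.{u}} (p : A ⟶ B) [DCoh.HasRpushEt A p] (K : DCoh.DEt A) (m : ℤ) [K.IsGE m] :
      ((DCoh.RpushEt A p).obj K).IsGE m := by
    haveI : PreservesFiniteLimits (EtCoh.pull p) := EtStalk.preservesFiniteLimits_pull p
    haveI : (EtCoh.pull p).Additive := (EtCoh.pullPushAdj p).left_adjoint_additive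
    haveI : PreservesFiniteColimits (EtCoh.pull p) :=
      haveI : (EtCoh.pull p).IsLeftAdjoint := (EtCoh.pullPushAdj p).isLeftAdjoint
      inferInstance
    obtain ⟨a'⟩ := nonempty_adj p
    exact WayOut.isGE_rightAdjoint (EtCoh.pull p) a' K m

end Groth.Agent.PBCShriek6
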