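import Groth.Agent.Lib.PBCShriek6.Support
import Groth.Agent.Lib.Nagata4.Nagata

/-!
# Composition of derived direct images with proper support
-/

set_option autoImplicit false
set_option linter.style.haveILetI false
set_option linter.unusedSectionVars false
set_option backward.isDefEq.respectTransparency false
set_option backward.isDefEq.respectTransparency.types false

universe u

open CategoryTheory CategoryTheory.Limits AlgebraicGeometry Opposite

namespace Groth.Agent.PBCShriek6

attribute [local instance] HasDerivedCategory.standard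

open Groth.Agent.EtStalk Groth.Agent.BcMapQ6

/-- Direct image along a proper morphism preserves bounded below objects. -/
theorem isGE_RpushEt {X Y : Scheme.{u}} (f : X ⟶ Y) [DCoh.HasRpushEt X f] (K : DCoh.DEt X) (a : ℤ) [K.IsGE a] :
    ((DCoh.RpushEt X f).obj K).IsGE a := by
  haveI : PreservesFiniteLimits (EtCoh.pull f) := EtStalk.preservesFiniteLimits_pull f
  haveI : (EtCoh.pull f).Additive := (EtCoh.pullPushAdj f).left_adjoint_additive
  haveI : PreservesFiniteColimits (EtCoh.pull f) :=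
    haveI : (EtCoh.pull f).IsLeftAdjoint := (EtCoh.pullPushAdj f).isLeftAdjoint
    inferInstance
  obtain ⟨a'⟩ := nonempty_adj f
  exact WayOut.isGE_rightAdjoint (EtCoh.pull f) a' K a

/-- `Rg_! Rf_! = R(g f)_!` (S0768). -/
theorem nonempty_Rshriek_comp {X Y Z : Scheme.{u}} [CompactSpace X] [QuasiSeparatedSpace X] [CompactSpace Z]
    [QuasiSeparatedSpace Z] (f : X ⟶ Y) (g : Y ⟶ Z) [IsSeparated g] [QuasiCompact g]
    (c : DEt.Compactification f)
    [PreservesFiniteLimits (EtShriek.extZero c.j)] [DCoh.HasRpushEt c.Xbar c.fbar] (d : DEt.Compactification g)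
    [PreservesFiniteLimits (EtShriek.extZero d.j)] [DCoh.HasRpushEt d.Xbar d.fbar]
    (e : DEt.Compactification (f ≫ g)) [PreservesFiniteLimits (EtShriek.extZero e.j)]
    [DCoh.HasRpushEt e.Xbar e.fbar] (K : DCoh.DEt X) (a : ℤ) [K.IsGE a]
    (hK : ∀ i : ℤ, EtCoh.IsTorsion (DCoh.HDEt K i)) :
    Nonempty ((DEt.Rshriek d).obj ((DEt.Rshriek c).obj K) ≅ (DEt.Rshriek e).obj K) := by
  haveI : CompactSpace d.Xbar := QuasiCompact.compactSpace_of_compactSpace d.fbar
  haveI : QuasiSeparatedSpace d.Xbar := quasiSeparatedSpace_of_quasiSeparated d.fbar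
  haveI : IsSeparated d.j := inferInstance
  haveI : QuasiCompact (d.j ≫ d.fbar) := by rw [d.fac]; infer_instance
  haveI : QuasiCompact d.j := QuasiCompact.of_comp d.j d.fbar
  obtain ⟨W, k, q, hk, -, hq, hkq⟩ := Nagata4.exists_compactification (c.fbar ≫ d.j)
  haveI := hk; haveI := hq
  let U' := pullback q d.j
  let j' := pullback.fst q d.j
  let qU := pullback.snd q d.j
  let i : c.Xbar ⟶ U' := pullback.lift k c.fbar hkq
  have hik : i ≫ j' = k := pullback.lift_fst _ _ _
  have hiq : i ≫ qU = c.fbar := pullback.lift_snd _ _ _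
  haveI : IsOpenImmersion (i ≫ j') := by rw [hik]; infer_instance
  haveI : IsOpenImmersion i := IsOpenImmersion.of_comp i j'
  haveI : IsProper (i ≫ qU) := by rw [hiq]; infer_instance
  haveI : IsProper i := IsProper.of_comp i qU
  let m := c.j ≫ i
  haveI : IsOpenImmersion m := inferInstance
  let l := m ≫ j'
  haveI : IsOpenImmersion l := inferInstance
  have hl : l ≫ q ≫ d.fbar = f ≫ g := by
    simp only [l, m, Category.assoc]
    rw [pullback.lift_fst_assoc, ← Category.assoc k q, hkq, Category.assoc, d.fac, ← Category.assoc, c.fac]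
  let e' : DEt.Compactification (f ≫ g) := ⟨W, l, q ≫ d.fbar, inferInstance, inferInstance, hl⟩
  haveI : DCoh.HasRpushEt U' qU := hasRpushEt _ _
  haveI : DCoh.HasRpushEt c.Xbar i := hasRpushEt _ _
  haveI : DCoh.HasRpushEt W q := hasRpushEt _ _
  haveI : DCoh.HasRpushEt W (q ≫ d.fbar) := hasRpushEt _ _
  haveI : DCoh.HasRpushEt e'.Xbar e'.fbar := hasRpushEt _ _
  haveI : PreservesFiniteLimits (EtShriek.extZero m) := inferInstance
  haveI : PreservesFiniteLimits (EtShriek.extZero j') := inferInstance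
  haveI : PreservesFiniteLimits (EtShriek.extZero l) := inferInstance
  haveI : PreservesFiniteLimits (EtShriek.extZero e'.j) := inferInstance
  obtain ⟨s₁⟩ := nonempty_extZeroD_iso m c.j i rfl K a hK
  obtain ⟨r₁⟩ := nonempty_RpushEt_comp i qU c.fbar hiq
  haveI : ((DEt.extZeroD m).obj K).IsGE a := WayOut.isGE_mapDerivedCategory (EtShriek.extZero m) K a
  obtain ⟨s₂⟩ := nonempty_extZeroD_Rpush d.j q j' qU (IsPullback.of_hasPullback q d.j)
    ((DEt.extZeroD m).obj K) a (isTorsion_extZeroD m hK)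
  obtain ⟨r₂⟩ := nonempty_RpushEt_comp q d.fbar (q ≫ d.fbar) rfl
  obtain ⟨t⟩ := nonempty_Rshriek_indep e' e K a hK
  let cl : EtShriek.extZero m ⋙ EtShriek.extZero j' ≅ EtShriek.extZero l := ExtShriek24.extZeroComp m j' l rfl
  let s₃ := (compIso (EtShriek.extZero m) (EtShriek.extZero j') (EtShriek.extZero l) cl).app K
  let Rd := DCoh.RpushEt d.Xbar d.fbar
  exact ⟨Rd.mapIso ((DEt.extZeroD d.j).mapIso ((r₁.app _).symm ≪≫ (DCoh.RpushEt U' qU).mapIso s₁.symm) ≪≫ s₂ ≪≫
    (DCoh.RpushEt W q).mapIso s₃) ≪≫ r₂.app _ ≪≫ t⟩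

end Groth.Agent.PBCShriek6
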