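import Groth.Agent.Lib.PBCShriek6.Basic
import Groth.Agent.S0681
import Groth.Agent.S0682
import Groth.Agent.S0685
import Groth.Agent.Lib.EtStalk.FiniteStalk
import Mathlib.AlgebraicGeometry.ZariskisMainTheorem
import Mathlib.AlgebraicGeometry.Artinian

/-!
# Higher direct images of direct images with proper support along quasi-finite morphisms

For a commutative square `g' ≫ f = f' ≫ g` with `f, f'` proper and `g, g'` separated, locally quasi-finite, the
higher direct image `R^q f_*` of `g'_! F` vanishes where `R^q f'_* F` does.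
-/

set_option autoImplicit false
set_option linter.style.haveILetI false
set_option linter.unusedSectionVars false
set_option backward.isDefEq.respectTransparency false
set_option backward.isDefEq.respectTransparency.types false

universe u

open CategoryTheory CategoryTheory.Limits AlgebraicGeometry Opposite

namespace Groth.Agent.PBCShriek6

open Groth.Agent.EtStalk PBC24

section Sum

variable {Q : Scheme.{u}} {ι : Type u} (W : ι → Q.Opens) (hW : ∀ x : Q, ∃! i, x ∈ W i) (F : EtCoh.Ab Q)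

include hW in
/-- A sheaf is the sum of its extensions by zero along a partition into open subschemes. -/
theorem nonempty_sigma_extZero :
    Nonempty ((∐ fun i => (EtShriek.extZero (W i).ι).obj ((EtShriek.restrAlong (W i).ι).obj F)) ≅ F) := by
  classical
  let A := fun i => (EtShriek.extZero (W i).ι).obj ((EtShriek.restrAlong (W i).ι).obj F)
  let d : ∐ A ⟶ F := Sigma.desc fun i => (EtShriek.extZeroAdj (W i).ι).counit.app F
  suffices h : IsIso d from ⟨asIso d⟩
  rw [isIso_iff_stalk]
  intro Ω _ _ ξ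
  haveI : PreservesColimit (Discrete.functor A) (EtCoh.stalk ξ) := inferInstance
  obtain ⟨i, hi, huniq⟩ := hW (ξ default)
  have hr : ∀ j, ξ (default : Spec (CommRingCat.of Ω)) ∈ Set.range (W j).ι → j = i := fun j hj => by
    rw [Scheme.Opens.range_ι] at hj
    exact huniq j hj
  let e := PreservesCoproduct.iso (EtCoh.stalk ξ) A
  obtain ⟨ζ, hζ⟩ := exists_lift_point_open (W i).ι ξ (by rw [Scheme.Opens.range_ι]; exact hi)
  haveI hci : IsIso ((EtCoh.stalk ξ).map ((EtShriek.extZeroAdj (W i).ι).counit.app F)) := by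
    subst hζ
    exact isIso_stalk_counit (W i).ι F ζ
  have hz : ∀ j, j ≠ i → IsZero ((EtCoh.stalk ξ).obj (A j)) := fun j hj =>
    stalk_extZero_isZero (W j).ι _ ξ fun h => hj (hr j h)
  have hincl : IsIso (Sigma.ι (fun j => (EtCoh.stalk ξ).obj (A j)) i) := by
    let r : (∐ fun j => (EtCoh.stalk ξ).obj (A j)) ⟶ (EtCoh.stalk ξ).obj (A i) :=
      Sigma.desc fun j => if hj : j = i then eqToHom (by rw [hj]) else 0
    refine ⟨r, by simp [r], Sigma.hom_ext _ _ fun j => ?_⟩
    by_cases hj : j = i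
    · subst hj; simp [r]
    · exact (hz j hj).eq_of_src _ _
  haveI : IsIso ((EtCoh.stalk ξ).map (Sigma.ι A i)) := by
    have : Sigma.ι (fun j => (EtCoh.stalk ξ).obj (A j)) i ≫ e.inv = (EtCoh.stalk ξ).map (Sigma.ι A i) := by
      simp [e, ι_comp_sigmaComparison]
    rw [← this]
    infer_instance
  have hd : (EtCoh.stalk ξ).map (Sigma.ι A i) ≫ (EtCoh.stalk ξ).map d =
      (EtCoh.stalk ξ).map ((EtShriek.extZeroAdj (W i).ι).counit.app F) := by
    rw [← Functor.map_comp, Sigma.ι_desc]
  haveI : IsIso ((EtCoh.stalk ξ).map (Sigma.ι A i) ≫ (EtCoh.stalk ξ).map d) := by rw [hd]; infer_instance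
  haveI := IsIso.of_isIso_comp_left ((EtCoh.stalk ξ).map (Sigma.ι A i)) ((EtCoh.stalk ξ).map d)
  exact (ConcreteCategory.isIso_iff_bijective _).1 ‹_›

end Sum

variable {X Y X' Y' : Scheme.{u}}

/-- A sheaf on a proper scheme over a separably closed field, supported with proper support along a
quasi-finite morphism from a family of proper schemes without cohomology, has no cohomology. -/
theorem subsingleton_H_lowerShriek {K : Type u} [Field K] [IsSepClosed K] {P Q T : Scheme.{u}}
    (a : P ⟶ Spec (CommRingCat.of K)) [IsProper a] (τ : T ⟶ Spec (CommRingCat.of K)) [LocallyQuasiFinite τ]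
    [LocallyOfFiniteType τ] (h : Q ⟶ P) [IsSeparated h] [LocallyOfFiniteType h] [LocallyQuasiFinite h]
    (π : Q ⟶ T) [IsProper π] (w : π ≫ τ = h ≫ a) (F : EtCoh.Ab Q) (q : ℕ)
    (hz : ∀ V : T.Opens, IsZero ((EtCoh.Rpush (π ∣_ V) q).obj ((EtCoh.pull (π ⁻¹ᵁ V).ι).obj F))) :
    Subsingleton (EtCoh.H P ((EtShriek.lowerShriek h).obj F) q) := by
  haveI : CompactSpace P := QuasiCompact.compactSpace_of_compactSpace a
  haveI : QuasiSeparatedSpace P := quasiSeparatedSpace_of_quasiSeparated a
  haveI : IsLocallyArtinian T := .of_locallyQuasiFinite τ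
  haveI : DiscreteTopology T := (IsLocallyArtinian.iff_isLocallyNoetherian_and_discreteTopology.1 ‹_›).2
  let V : T → T.Opens := fun y => ⟨{y}, isOpen_discrete _⟩
  let W : T → Q.Opens := fun y => π ⁻¹ᵁ V y
  have hW : ∀ x : Q, ∃! y, x ∈ W y := fun x => ⟨π x, rfl, fun y hy => (Set.mem_singleton_iff.1 hy).symm⟩
  obtain ⟨e⟩ := nonempty_sigma_extZero W hW F
  haveI := Groth.Agent.S0682.result h T
  refine subsingleton_H_of_iso ((EtShriek.lowerShriek h).mapIso e.symm ≪≫
    PreservesCoproduct.iso (EtShriek.lowerShriek h) _) q (subsingleton_H_sigma P q _ fun y => ?_)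
  haveI : CompactSpace ↥(V y) := isCompact_iff_compactSpace.1 isCompact_singleton
  haveI : QuasiCompact ((V y).ι ≫ τ) := HasAffineProperty.iff_of_isAffine.mpr ‹_›
  haveI : IsFinite ((V y).ι ≫ τ) := IsFinite.of_locallyQuasiFinite _
  let b := (W y).ι ≫ h
  have hba : b ≫ a = (π ∣_ V y) ≫ ((V y).ι ≫ τ) := by
    rw [Category.assoc, ← w, morphismRestrict_ι_assoc]
  haveI : IsProper (b ≫ a) := by rw [hba]; infer_instance
  haveI : IsProper b := IsProper.of_comp b a
  haveI : LocallyQuasiFinite b := inferInstanceAs (LocallyQuasiFinite ((W y).ι ≫ h))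
  haveI : IsFinite b := IsFinite.of_isProper_of_locallyQuasiFinite b
  obtain ⟨e1⟩ := EtShriek24.extZero_iso_lowerShriek (W y).ι
  obtain ⟨e2⟩ := Groth.Agent.S0685.result (W y).ι h
  obtain ⟨e3⟩ := EtShriek24.lowerShriek_iso_push b
  refine subsingleton_H_of_iso ((EtShriek.lowerShriek h).mapIso (e1.app _) ≪≫ (e2.app _).symm ≪≫ e3.app _) q
    (subsingleton_H_push_finite b a _ q ?_)
  rw [hba]
  exact isZero_Rpush_comp_finite _ _ _ q ((hz (V y)).of_iso
    ((EtCoh.Rpush _ q).mapIso ((restrPullIso (W y).ι).app F)))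

/-- **Vanishing criterion.** -/
theorem isZero_Rpush_lowerShriek (hBC : ProperBC.{u}) (f : X ⟶ Y) (g : Y' ⟶ Y) (f' : X' ⟶ Y')
    (g' : X' ⟶ X) (w : g' ≫ f = f' ≫ g) [IsProper f] [IsProper f'] [IsSeparated g] [LocallyOfFiniteType g]
    [LocallyQuasiFinite g] [IsSeparated g'] [LocallyOfFiniteType g'] [LocallyQuasiFinite g']
    (F : EtCoh.Ab X') (hF : EtCoh.IsTorsion F) (hG : EtCoh.IsTorsion ((EtShriek.lowerShriek g').obj F)) (q : ℕ)
    (hq : IsZero ((EtCoh.Rpush f' q).obj F)) :
    IsZero ((EtCoh.Rpush f q).obj ((EtShriek.lowerShriek g').obj F)) := by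
  rw [isZero_iff_stalk]
  intro Ω _ _ ξ
  obtain ⟨e⟩ := nonempty_stalk_Rpush hBC f ξ ((EtShriek.lowerShriek g').obj F) hG q
  refine IsZero.of_iso (AddCommGrpCat.isZero_iff_subsingleton.2 ?_) e
  let p := pullback.fst f ξ
  let k := pullback.fst g' p
  let h := pullback.snd g' p
  obtain ⟨eb⟩ := Groth.Agent.S0681.result g' p h k (IsPullback.of_hasPullback g' p) F
  refine subsingleton_H_of_iso eb.symm q ?_
  let t := pullback.fst g ξ
  let τ := pullback.snd g ξ
  let π : pullback g' p ⟶ pullback g ξ := pullback.lift (k ≫ f') (h ≫ pullback.snd f ξ) (by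
    rw [Category.assoc, ← w, pullback.condition_assoc, Category.assoc, pullback.condition])
  have sq : IsPullback k π f' t :=
    IsPullback.of_bot
      (h₂₁ := t) (v₂₁ := τ) (v₁₂ := f') (v₂₂ := g) (by
        rw [show π ≫ τ = h ≫ pullback.snd f ξ from pullback.lift_snd _ _ _, ← w]
        exact (IsPullback.of_hasPullback g' p).paste_vert (IsPullback.of_hasPullback f ξ))
      (pullback.lift_fst _ _ _).symm (IsPullback.of_hasPullback g ξ)
  haveI : IsProper π := MorphismProperty.of_isPullback sq ‹IsProper f'›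
  refine subsingleton_H_lowerShriek (pullback.snd f ξ) τ h π (pullback.lift_snd _ _ _) _ q fun V => ?_
  let sq' := (isPullback_morphismRestrict π V).flip.paste_horiz sq
  haveI := hBC f' inferInstance (π ∣_ V) (V.ι ≫ t) ((π ⁻¹ᵁ V).ι ≫ k) sq' F hF q
  exact ((((EtCoh.pull (V.ι ≫ t)).map_isZero hq).of_iso
    (asIso (EtBC.bcQ f' (V.ι ≫ t) (π ∣_ V) ((π ⁻¹ᵁ V).ι ≫ k) sq'.w q F)).symm)).of_iso
    ((EtCoh.Rpush _ q).mapIso ((EtCore.pullComp (π ⁻¹ᵁ V).ι k).app F).symm)

end Groth.Agent.PBCShriek6
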