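import Mathlib.Algebra.Homology.DerivedCategory.ExactFunctor
import Mathlib.Algebra.Homology.DerivedCategory.Ext.Map

/-!
# Natural transformations from a composite of exact functors, on derived categories
-/

set_option autoImplicit false
set_option linter.unusedSectionVars false
set_option backward.isDefEq.respectTransparency false
set_option backward.isDefEq.respectTransparency.types false

universe w₁ w₂ w₃ v₁ v₂ v₃ u₁ u₂ u₃

open CategoryTheory CategoryTheory.Limits

namespace Groth.Agent.PBCShriek6

variable {A : Type u₁} [Category.{v₁} A] [Abelian A] [HasDerivedCategory.{w₁} A]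
  {B : Type u₂} [Category.{v₂} B] [Abelian B] [HasDerivedCategory.{w₂} B]
  {C : Type u₃} [Category.{v₃} C] [Abelian C] [HasDerivedCategory.{w₃} C]
  (F : A ⥤ B) [F.Additive] [PreservesFiniteLimits F] [PreservesFiniteColimits F]
  (G : B ⥤ C) [G.Additive] [PreservesFiniteLimits G] [PreservesFiniteColimits G]
  (H : A ⥤ C) [H.Additive] [PreservesFiniteLimits H] [PreservesFiniteColimits H]
  (t : F ⋙ G ⟶ H)

/-- The map of complexes. -/
noncomputable def mapCx :
    F.mapHomologicalComplex (ComplexShape.up ℤ) ⋙ G.mapHomologicalComplex (ComplexShape.up ℤ) ⟶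
      H.mapHomologicalComplex (ComplexShape.up ℤ) where
  app K := { f := fun i => t.app (K.X i), comm' := fun i j _ => (t.naturality (K.d i j)).symm }
  naturality K L φ := by ext i; exact t.naturality (φ.f i)

noncomputable instance lifting :
    Localization.Lifting DerivedCategory.Q (HomologicalComplex.quasiIso A (ComplexShape.up ℤ))
      (F.mapHomologicalComplex (ComplexShape.up ℤ) ⋙ G.mapHomologicalComplex (ComplexShape.up ℤ) ⋙ DerivedCategory.Q)
      (F.mapDerivedCategory ⋙ G.mapDerivedCategory) :=
  ⟨(Functor.associator _ _ _).symm ≪≫ Functor.isoWhiskerRight F.mapDerivedCategoryFactors _ ≪≫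
    Functor.associator _ _ _ ≪≫ Functor.isoWhiskerLeft _ G.mapDerivedCategoryFactors⟩

/-- The transformation on derived categories. -/
noncomputable def derNat : F.mapDerivedCategory ⋙ G.mapDerivedCategory ⟶ H.mapDerivedCategory :=
  Localization.liftNatTrans DerivedCategory.Q (HomologicalComplex.quasiIso A (ComplexShape.up ℤ))
    (F.mapHomologicalComplex (ComplexShape.up ℤ) ⋙ G.mapHomologicalComplex (ComplexShape.up ℤ) ⋙ DerivedCategory.Q)
    (H.mapHomologicalComplex (ComplexShape.up ℤ) ⋙ DerivedCategory.Q) _ _
    ((Functor.associator _ _ _).inv ≫ Functor.whiskerRight (mapCx F G H t) _)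

theorem derNat_app_Q (K : CochainComplex A ℤ) :
    (derNat F G H t).app (DerivedCategory.Q.obj K) =
      G.mapDerivedCategory.map (F.mapDerivedCategoryFactors.hom.app K) ≫
        G.mapDerivedCategoryFactors.hom.app _ ≫ DerivedCategory.Q.map ((mapCx F G H t).app K) ≫
          H.mapDerivedCategoryFactors.inv.app K := by
  rw [derNat, Localization.liftNatTrans_app]
  simp only [Localization.Lifting.iso]
  simp

/-- The transformation on an object placed in one degree. -/
theorem derNat_single (n : ℤ) (X : A) :
    G.mapDerivedCategory.map ((F.mapDerivedCategorySingleFunctor n).inv.app X) ≫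
        (derNat F G H t).app ((DerivedCategory.singleFunctor A n).obj X) ≫
          (H.mapDerivedCategorySingleFunctor n).hom.app X =
      (G.mapDerivedCategorySingleFunctor n).hom.app (F.obj X) ≫
        (DerivedCategory.singleFunctor C n).map (t.app X) := by
  let c : (DerivedCategory.singleFunctor A n).obj X ≅
      DerivedCategory.Q.obj ((HomologicalComplex.single A (ComplexShape.up ℤ) n).obj X) :=
    (DerivedCategory.singleFunctorIsoCompQ A n).app X
  have hnat := (derNat F G H t).naturality c.hom
  rw [derNat_app_Q] at hnat
  have key : (derNat F G H t).app ((DerivedCategory.singleFunctor A n).obj X) =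
      G.mapDerivedCategory.map (F.mapDerivedCategory.map c.hom) ≫
        (G.mapDerivedCategory.map (F.mapDerivedCategoryFactors.hom.app _) ≫
          G.mapDerivedCategoryFactors.hom.app _ ≫ DerivedCategory.Q.map ((mapCx F G H t).app _) ≫
            H.mapDerivedCategoryFactors.inv.app _) ≫ H.mapDerivedCategory.map c.inv := by
    rw [← Functor.comp_map F.mapDerivedCategory G.mapDerivedCategory, ← Category.assoc, hnat, Category.assoc,
      ← Functor.map_comp, c.hom_inv_id, CategoryTheory.Functor.map_id, Category.comp_id]
  have hcx : (G.mapHomologicalComplex (ComplexShape.up ℤ)).map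
        ((HomologicalComplex.singleMapHomologicalComplex F (ComplexShape.up ℤ) n).inv.app X) ≫
      (mapCx F G H t).app ((HomologicalComplex.single A (ComplexShape.up ℤ) n).obj X) ≫
        (HomologicalComplex.singleMapHomologicalComplex H (ComplexShape.up ℤ) n).hom.app X =
      (HomologicalComplex.singleMapHomologicalComplex G (ComplexShape.up ℤ) n).hom.app (F.obj X) ≫
        (HomologicalComplex.single C (ComplexShape.up ℤ) n).map (t.app X) := by
    refine HomologicalComplex.to_single_hom_ext ?_
    simp only [HomologicalComplex.comp_f, Functor.mapHomologicalComplex_map_f,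
      HomologicalComplex.singleMapHomologicalComplex_inv_app_self,
      HomologicalComplex.singleMapHomologicalComplex_hom_app_self, HomologicalComplex.single_map_f_self, mapCx]
    simp only [Functor.map_comp, Category.assoc]
    erw [reassoc_of% (t.naturality (HomologicalComplex.singleObjXSelf (ComplexShape.up ℤ) n X).inv)]
    simp
  have hQ := congrArg DerivedCategory.Q.map hcx
  rw [key]
  simp [Functor.mapDerivedCategorySingleFunctor, c]
  congr 1
  erw [← Functor.map_comp_assoc G.mapDerivedCategory (F.mapDerivedCategory.map _) (F.mapDerivedCategory.map _),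
    ← F.mapDerivedCategory.map_comp, Iso.inv_hom_id_app, CategoryTheory.Functor.map_id,
    CategoryTheory.Functor.map_id, Category.id_comp]
  erw [← Functor.map_comp_assoc G.mapDerivedCategory (F.mapDerivedCategoryFactors.inv.app _)
    (F.mapDerivedCategoryFactors.hom.app _), Iso.inv_hom_id_app, CategoryTheory.Functor.map_id, Category.id_comp]
  erw [← Functor.map_comp_assoc H.mapDerivedCategory, Iso.inv_hom_id_app, CategoryTheory.Functor.map_id,
    Category.id_comp, Iso.inv_hom_id_app_assoc]
  erw [G.mapDerivedCategoryFactors_hom_naturality_assoc]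
  congr 1
  erw [← (DerivedCategory.singleFunctorIsoCompQ C n).inv.naturality (t.app X)]
  simp only [Functor.comp_map, ← Category.assoc, ← Functor.map_comp]
  congr 2
  simp only [Category.assoc]
  exact hcx

section CompIso

/-- An isomorphism of composites of exact functors descends. -/
noncomputable def compIso (F : A ⥤ B) [F.Additive] [PreservesFiniteLimits F] [PreservesFiniteColimits F]
    (G : B ⥤ C) [G.Additive] [PreservesFiniteLimits G] [PreservesFiniteColimits G]
    (H : A ⥤ C) [H.Additive] [PreservesFiniteLimits H] [PreservesFiniteColimits H] (e : F ⋙ G ≅ H) :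
    F.mapDerivedCategory ⋙ G.mapDerivedCategory ≅ H.mapDerivedCategory :=
  letI : Localization.Lifting DerivedCategory.Q (HomologicalComplex.quasiIso A (ComplexShape.up ℤ))
      (F.mapHomologicalComplex (ComplexShape.up ℤ) ⋙ G.mapHomologicalComplex (ComplexShape.up ℤ) ⋙ DerivedCategory.Q)
      (F.mapDerivedCategory ⋙ G.mapDerivedCategory) :=
    ⟨(Functor.associator _ _ _).symm ≪≫ Functor.isoWhiskerRight F.mapDerivedCategoryFactors _ ≪≫
      Functor.associator _ _ _ ≪≫ Functor.isoWhiskerLeft _ G.mapDerivedCategoryFactors⟩
  Localization.liftNatIso DerivedCategory.Q (HomologicalComplex.quasiIso A (ComplexShape.up ℤ))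
    (F.mapHomologicalComplex (ComplexShape.up ℤ) ⋙ G.mapHomologicalComplex (ComplexShape.up ℤ) ⋙ DerivedCategory.Q)
    (H.mapHomologicalComplex (ComplexShape.up ℤ) ⋙ DerivedCategory.Q) _ _
    ((Functor.associator _ _ _).symm ≪≫ Functor.isoWhiskerRight
      (NatIso.ofComponents (fun K => HomologicalComplex.Hom.isoOfComponents (fun i => e.app (K.X i))
        (fun i j _ => (e.hom.naturality (K.d i j)).symm)) (fun f => by ext i; exact e.hom.naturality (f.f i))) _)

end CompIso

end Groth.Agent.PBCShriek6
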