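import Groth.Agent.Lib.RDerLES.Horseshoe
import Mathlib.CategoryTheory.Abelian.RightDerived

/-!
# Derived functors of a composite with an exact first functor
-/

set_option autoImplicit false
set_option backward.isDefEq.respectTransparency false
set_option backward.isDefEq.respectTransparency.types false

universe v v' v'' u u' u''

open CategoryTheory CategoryTheory.Limits

namespace Groth.Agent.PBCShriek6

variable {A : Type u} [Category.{v} A] [Abelian A] [EnoughInjectives A]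
  {B : Type u'} [Category.{v'} B] [Abelian B] [EnoughInjectives B]
  {C : Type u''} [Category.{v''} C] [Abelian C]

/-- The next derived object of the kernel is a cokernel. -/
theorem nonempty_cokernel_iso (F : A ⥤ C) [F.Additive] {S : ShortComplex A} (hS : S.ShortExact) (n : ℕ)
    (hz : IsZero ((F.rightDerived (n + 1)).obj S.X₂)) :
    Nonempty (cokernel ((F.rightDerived n).map S.g) ≅ (F.rightDerived (n + 1)).obj S.X₁) := by
  obtain ⟨T⟩ := RDerLES.exists_sesRes hS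
  obtain ⟨-, ⟨w, hw⟩, ⟨w', hw'⟩⟩ := RDerLES.exact_sequences F T n (n + 1) rfl
  haveI : Epi (T.delta F n (n + 1) rfl) := hw'.epi_f (hz.eq_of_tgt _ _)
  exact ⟨(cokernelIsCokernel _).coconePointUniqueUpToIso hw.gIsCokernel⟩

/-- `R^q (Ψ ⋙ Φ) = R^q Φ ∘ Ψ` for exact `Ψ`, on a class of objects closed under quotients with enough objects
acyclic for both sides. -/
theorem nonempty_rightDerived_comp_iso (Ψ : A ⥤ B) [Ψ.Additive] [Ψ.PreservesHomology] (Φ : B ⥤ C) [Φ.Additive]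
    [PreservesFiniteLimits Φ] [PreservesFiniteLimits Ψ] (P : ObjectProperty A)
    (hP : ∀ M, P M → ∃ (S : ShortComplex A), S.ShortExact ∧ Nonempty (S.X₁ ≅ M) ∧ P S.X₃ ∧
      (∀ q, 0 < q → IsZero (((Ψ ⋙ Φ).rightDerived q).obj S.X₂)) ∧
      (∀ q, 0 < q → IsZero ((Φ.rightDerived q).obj (Ψ.obj S.X₂)))) :
    ∀ (q : ℕ) (M : A), P M → Nonempty (((Ψ ⋙ Φ).rightDerived q).obj M ≅ (Φ.rightDerived q).obj (Ψ.obj M)) := by
  haveI : PreservesFiniteLimits (Ψ ⋙ Φ) := comp_preservesFiniteLimits Ψ Φ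
  intro q
  induction q with
  | zero =>
    intro M _
    exact ⟨(Ψ ⋙ Φ).rightDerivedZeroIsoSelf.app M ≪≫ (Φ.rightDerivedZeroIsoSelf.app (Ψ.obj M)).symm⟩
  | succ n ih =>
    intro M hM
    obtain ⟨S, hS, ⟨e⟩, h3, hA, hB⟩ := hP M hM
    obtain ⟨a⟩ := nonempty_cokernel_iso (Ψ ⋙ Φ) hS n (hA _ n.succ_pos)
    have hS' : (S.map Ψ).ShortExact :=
      haveI : PreservesFiniteColimits Ψ := Ψ.preservesFiniteColimits_of_preservesHomology
      hS.map_of_exact Ψ
    obtain ⟨b⟩ := nonempty_cokernel_iso Φ hS' n (hB _ n.succ_pos)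
    refine ⟨((Ψ ⋙ Φ).rightDerived (n + 1)).mapIso e.symm ≪≫ a.symm ≪≫ ?_ ≪≫ b ≪≫
      (Φ.rightDerived (n + 1)).mapIso (Ψ.mapIso e)⟩
    rcases n with _ | m
    · refine cokernel.mapIso _ _
        ((Ψ ⋙ Φ).rightDerivedZeroIsoSelf.app S.X₂ ≪≫ (Φ.rightDerivedZeroIsoSelf.app (Ψ.obj S.X₂)).symm)
        ((Ψ ⋙ Φ).rightDerivedZeroIsoSelf.app S.X₃ ≪≫ (Φ.rightDerivedZeroIsoSelf.app (Ψ.obj S.X₃)).symm) ?_
      change _ ≫ _ = _ ≫ _
      rw [Iso.trans_hom, Iso.trans_hom, ← Category.assoc]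
      erw [(Ψ ⋙ Φ).rightDerivedZeroIsoSelf.hom.naturality S.g, Category.assoc,
        Φ.rightDerivedZeroIsoSelf.inv.naturality (Ψ.map S.g)]
      exact (Category.assoc _ _ _).symm
    · let c := (ih S.X₃ h3).some
      exact cokernel.mapIso _ _ ((hA _ m.succ_pos).iso (hB _ m.succ_pos)) c ((hA _ m.succ_pos).eq_of_src _ _)

end Groth.Agent.PBCShriek6
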