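import Groth.Agent.Lib.BCInj6.Tor
import Groth.Agent.Lib.BcMapQ6.Torsion
import Groth.Agent.Lib.FieldBr3.CurveTor
import Groth.Agent.Lib.FieldH25.Primary

/-!
# Embedding torsion sheaves in torsion sheaves without higher direct images
-/

set_option autoImplicit false
set_option linter.style.haveILetI false
set_option linter.unusedSectionVars false
set_option backward.isDefEq.respectTransparency false
set_option backward.isDefEq.respectTransparency.types false

universe u

open CategoryTheory CategoryTheory.Limits AlgebraicGeometry Opposite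

namespace Groth.Agent.PBCShriek6

open Groth.Agent.EtStalk

variable {X : Scheme.{u}}

/-- Quotients of torsion sheaves are torsion. -/
theorem isTorsion_of_epi {F G : EtCoh.Ab X} (p : F ⟶ G) [Epi p] (hF : EtCoh.IsTorsion F) :
    EtCoh.IsTorsion G :=
  FieldBr3.isTorsion_of_stalk _ fun Ω _ _ ξ x => by
    obtain ⟨y, rfl⟩ := (epi_iff_stalk p).1 inferInstance Ω ξ x
    exact AddMonoidHom.isOfFinAddOrder _ (FieldBr3.isOfFinAddOrder_stalk F hF ξ y)

/-- Filtered colimits of torsion sheaves are torsion. -/
theorem isTorsion_colimit (D : ULift.{u + 1} ℕ ⥤ EtCoh.Ab X) (hD : ∀ m, EtCoh.IsTorsion (D.obj m)) :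
    EtCoh.IsTorsion (colimit D) :=
  FieldBr3.isTorsion_of_stalk _ fun Ω _ _ ξ x => by
    haveI : IsFiltered (ULift.{u + 1} ℕ) := isFiltered_of_directed_le_nonempty _
    haveI : PreservesColimitsOfShape (ULift.{u + 1} ℕ) (EtCoh.stalk ξ) := inferInstance
    obtain ⟨m, y, rfl⟩ := Concrete.isColimit_exists_rep _
      (isColimitOfPreserves (EtCoh.stalk ξ) (colimit.isColimit D)) x
    exact AddMonoidHom.isOfFinAddOrder _ (FieldBr3.isOfFinAddOrder_stalk _ (hD m) ξ y)

lemma zsmul_eq_nsmul (F : EtCoh.Ab X) (n : ℕ) : ((n : ℤ) • 𝟙 F) = n • 𝟙 F := natCast_zsmul _ _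

/-- The torsion part of a sheaf, as a colimit. -/
noncomputable abbrev torPart (J : EtCoh.Ab X) : EtCoh.Ab X := colimit (EtColim.torDiag J)

theorem isTorsion_torPart (J : EtCoh.Ab X) : EtCoh.IsTorsion (torPart J) := by
  refine isTorsion_colimit _ fun m => FieldH25.isTorsion_of_nsmul_id_eq_zero _ m.down.factorial_pos ?_
  change m.down.factorial • 𝟙 (kernel (EtColim.mulFact J m.down)) = 0
  rw [← cancel_mono (kernel.ι (EtColim.mulFact J m.down)), zero_comp, Preadditive.nsmul_comp,
    Category.id_comp, ← natCast_zsmul, ← kernel.condition (EtColim.mulFact J m.down),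
    Preadditive.comp_zsmul, Category.comp_id]

/-- The torsion part of an injective sheaf has no higher direct images. -/
theorem isZero_Rpush_torPart {Y : Scheme.{u}} (f : X ⟶ Y) [QuasiCompact f] [QuasiSeparated f]
    (J : EtCoh.Ab X) [Injective J] (q : ℕ) (hq : 0 < q) :
    IsZero ((EtCoh.Rpush f q).obj (torPart J)) := by
  haveI := BcMapQ6.preservesColimitsOfShape_Rpush f q
  refine IsZero.of_iso ?_ (preservesColimitIso (EtCoh.Rpush f q) (EtColim.torDiag J))
  rw [IsZero.iff_id_eq_zero]
  refine colimit.hom_ext fun m => IsZero.eq_of_src ?_ _ _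
  exact (BCInj6.isZero_Rpush_tor J f m.down.factorial_pos q hq).of_iso
    ((EtCoh.Rpush f q).mapIso (kernelIsoOfEq (zsmul_eq_nsmul J m.down.factorial)))

/-- A torsion sheaf embeds into the torsion part of an injective one. -/
theorem exists_mono_torPart {F : EtCoh.Ab X} (hF : EtCoh.IsTorsion F) :
    ∃ (J : EtCoh.Ab X) (_ : Injective J) (i : F ⟶ torPart J), Mono i := by
  haveI := EtColim.isIso_desc F hF
  let J := Injective.under F
  let ι := Injective.ι F
  haveI : Mono ι := Injective.ι_mono F
  let φ : EtColim.torDiag F ⟶ EtColim.torDiag J :=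
    { app := fun m => kernel.map _ _ ι ι (by
        simp [EtColim.mulFact, Preadditive.zsmul_comp, Preadditive.comp_zsmul])
      naturality := fun m k h => by
        apply equalizer.hom_ext
        simp [EtColim.torDiag] }
  refine ⟨J, inferInstance, inv (colimit.desc (EtColim.torDiag F) (EtColim.torCocone F)) ≫ colimMap φ, ?_⟩
  haveI : Mono ((inv (colimit.desc (EtColim.torDiag F) (EtColim.torCocone F)) ≫ colimMap φ) ≫
      colimit.desc (EtColim.torDiag J) (EtColim.torCocone J)) := by
    have h : colimMap φ ≫ colimit.desc (EtColim.torDiag J) (EtColim.torCocone J) =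
        colimit.desc (EtColim.torDiag F) (EtColim.torCocone F) ≫ ι := colimit.hom_ext fun m => by
      simp [φ, EtColim.torCocone]
    rw [Category.assoc, h, IsIso.inv_hom_id_assoc]
    infer_instance
  exact mono_of_mono _ (colimit.desc (EtColim.torDiag J) (EtColim.torCocone J))

end Groth.Agent.PBCShriek6
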