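import Groth.Agent.Lib.EtShriek24.Stalk
import Groth.Agent.Lib.EtStalk.FiniteStalk
import Groth.Agent.Lib.FieldBr3.CurveTor

/-!
# Direct images with proper support of torsion sheaves are torsion
-/

set_option autoImplicit false
set_option linter.style.haveILetI false
set_option backward.isDefEq.respectTransparency false
set_option backward.isDefEq.respectTransparency.types false

universe u

open CategoryTheory CategoryTheory.Limits AlgebraicGeometry Opposite

namespace Groth.Agent.PBCShriek6

open Groth.Agent.EtStalk Groth.Agent.EtShriek24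

/-- Direct images with proper support of torsion sheaves are torsion. -/
theorem isTorsion_lowerShriek {X Y : Scheme.{u}} (f : X ⟶ Y) [IsSeparated f] [LocallyOfFiniteType f]
    [LocallyQuasiFinite f] {F : EtCoh.Ab X} (hF : EtCoh.IsTorsion F) :
    EtCoh.IsTorsion ((EtShriek.lowerShriek f).obj F) := by
  refine EtColim.isTorsion_of_iso ((shIso f).app F).symm ?_
  intro U s x
  obtain ⟨Ω, _, _, η, φ, hφ⟩ := exists_algFib U x
  let p := germ η ((shFunctor f).obj F) φ s
  have hp : IsOfFinAddOrder p := by
    classical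
    have h1 : ∀ l, IsOfFinAddOrder (phi f η F p l) := fun l => FieldBr3.isOfFinAddOrder_stalk F hF _ _
    let S := (phi_finite_support f η F p).toFinset
    refine isOfFinAddOrder_iff_nsmul_eq_zero.2
      ⟨∏ l ∈ S, addOrderOf (phi f η F p l), Finset.prod_pos fun l _ => (h1 l).addOrderOf_pos, ?_⟩
    refine phi_injective f η F (funext fun l => ?_)
    rw [map_nsmul, map_zero, Pi.smul_apply, Pi.zero_apply]
    by_cases hl : l ∈ S
    · exact addOrderOf_dvd_iff_nsmul_eq_zero.1 (Finset.dvd_prod_of_mem (fun l => addOrderOf (phi f η F p l)) hl)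
    · rw [not_not.1 fun h => hl ((phi_finite_support f η F p).mem_toFinset.2 h), nsmul_zero]
  obtain ⟨N, hN, hN0⟩ := isOfFinAddOrder_iff_nsmul_eq_zero.1 hp
  obtain ⟨V, g, hx, he⟩ := (mem_agree_iff_germ _ φ (N • s) 0).2 (by rw [map_nsmul, map_zero]; exact hN0)
  refine ⟨V, g, ?_, isOfFinAddOrder_iff_nsmul_eq_zero.2 ⟨N, hN, ?_⟩⟩
  · obtain ⟨v, hv⟩ := hx
    exact ⟨v, hv.trans hφ⟩
  · rw [map_nsmul, map_zero] at he
    exact he

end Groth.Agent.PBCShriek6
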