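import Groth.Agent.Lib.PBCShriek6.Core
import Groth.Agent.Lib.PBCShriek6.Torsion
import Groth.Agent.Lib.PBCShriek6.Derived
import Groth.Agent.Lib.PBCShriek6.TorEmbed
import Groth.Agent.S0684
import Groth.Agent.S0685
import Groth.Agent.Lib.EtShriek24.Compactification

/-!
# Proper direct images commute with direct images with proper support along quasi-finite morphisms
-/

set_option autoImplicit false
set_option linter.style.haveILetI false
set_option linter.unusedSectionVars false
set_option backward.isDefEq.respectTransparency false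
set_option backward.isDefEq.respectTransparency.types false

universe u

open CategoryTheory CategoryTheory.Limits AlgebraicGeometry Opposite

namespace Groth.Agent.PBCShriek6

open Groth.Agent.EtStalk PBC24

variable {X Y X' Y' : Scheme.{u}} (f : X ⟶ Y) (g : Y' ⟶ Y) (f' : X' ⟶ Y') (g' : X' ⟶ X)
  [IsProper f] [IsProper f'] [IsSeparated g] [LocallyOfFiniteType g] [LocallyQuasiFinite g]
  [IsSeparated g'] [LocallyOfFiniteType g'] [LocallyQuasiFinite g']

/-- The exchange in degree zero. -/
theorem nonempty_exchange₀ (w : g' ≫ f = f' ≫ g) :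
    Nonempty (EtShriek.lowerShriek g' ⋙ EtCoh.push f ≅ EtCoh.push f' ⋙ EtShriek.lowerShriek g) := by
  obtain ⟨p⟩ := EtShriek24.lowerShriek_iso_push f
  obtain ⟨p'⟩ := EtShriek24.lowerShriek_iso_push f'
  obtain ⟨c⟩ := Groth.Agent.S0685.result g' f
  obtain ⟨c'⟩ := Groth.Agent.S0685.result f' g
  exact ⟨Functor.isoWhiskerLeft _ p.symm ≪≫ c.symm ≪≫ eqToIso (congrArg EtShriek.lowerShriek w) ≪≫ c' ≪≫
    Functor.isoWhiskerRight p' _⟩

/-- The exchange in every degree. -/
theorem nonempty_exchange (hBC : ProperBC.{u}) (w : g' ≫ f = f' ≫ g) (F : EtCoh.Ab X')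
    (hF : EtCoh.IsTorsion F) (q : ℕ) :
    Nonempty ((EtShriek.lowerShriek g).obj ((EtCoh.Rpush f' q).obj F) ≅
      (EtCoh.Rpush f q).obj ((EtShriek.lowerShriek g').obj F)) := by
  haveI := (Groth.Agent.S0684.result g).1
  haveI := (Groth.Agent.S0684.result g).2
  haveI := (Groth.Agent.S0684.result g').1
  haveI := (Groth.Agent.S0684.result g').2
  haveI := Functor.additive_of_preserves_binary_products (EtShriek.lowerShriek g)
  haveI := Functor.additive_of_preserves_binary_products (EtShriek.lowerShriek g')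
  haveI : (EtShriek.lowerShriek g).PreservesHomology := inferInstance
  haveI : (EtShriek.lowerShriek g').PreservesHomology := inferInstance
  haveI : (EtCoh.push f).IsRightAdjoint := (EtCoh.pullPushAdj f).isRightAdjoint
  haveI : PreservesFiniteLimits (EtCoh.push f) := inferInstance
  obtain ⟨e₀⟩ := nonempty_exchange₀ f g f' g' w
  let E : ∀ (M : EtCoh.Ab X') (n : ℕ), ((EtShriek.lowerShriek g' ⋙ EtCoh.push f).rightDerived n).obj M ≅
      (EtShriek.lowerShriek g).obj ((EtCoh.Rpush f' n).obj M) := fun M n =>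
    (RDer.rightDerivedIso e₀ n).app M ≪≫
      (RDComp.rightDerivedPostIso (EtCoh.push f') (EtShriek.lowerShriek g) n).app M
  obtain ⟨e⟩ := nonempty_rightDerived_comp_iso (EtShriek.lowerShriek g') (EtCoh.push f)
    (fun M => EtCoh.IsTorsion M) (fun M hM => by
      obtain ⟨J, hJ, i, hi⟩ := exists_mono_torPart hM
      haveI := hJ; haveI := hi
      refine ⟨ShortComplex.mk i (cokernel.π i) (cokernel.condition i),
        { exact := ShortComplex.exact_cokernel i }, ⟨Iso.refl _⟩,
        isTorsion_of_epi (cokernel.π i) (isTorsion_torPart J), fun n hn => ?_, fun n hn => ?_⟩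
      · exact ((EtShriek.lowerShriek g).map_isZero (isZero_Rpush_torPart f' J n hn)).of_iso (E _ n)
      · exact isZero_Rpush_lowerShriek hBC f g f' g' w _ (isTorsion_torPart J)
          (isTorsion_lowerShriek g' (isTorsion_torPart J)) n (isZero_Rpush_torPart f' J n hn)) q F hF
  exact ⟨(E F q).symm ≪≫ e⟩

omit [IsProper f] [IsProper f'] [IsSeparated g'] [LocallyOfFiniteType g'] [LocallyQuasiFinite g'] in
/-- Direct image with proper support followed by a proper morphism. -/
theorem push_lowerShriek {Z : Scheme.{u}} (hBC : ProperBC.{u}) (a : X' ⟶ X) (h : X ⟶ Z) (b : X' ⟶ Z)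
    (wab : b = a ≫ h) [IsSeparated a] [LocallyOfFiniteType a] [LocallyQuasiFinite a] [IsSeparated b]
    [LocallyOfFiniteType b] [LocallyQuasiFinite b] [IsProper h] (F : EtCoh.Ab X') (hF : EtCoh.IsTorsion F) :
    Nonempty ((EtShriek.lowerShriek b).obj F ≅ (EtCoh.push h).obj ((EtShriek.lowerShriek a).obj F)) ∧
      ∀ q : ℕ, 0 < q → IsZero ((EtCoh.Rpush h q).obj ((EtShriek.lowerShriek a).obj F)) := by
  have w : a ≫ h = 𝟙 X' ≫ b := by rw [Category.id_comp, wab]
  refine ⟨?_, fun q hq => isZero_Rpush_lowerShriek hBC h b (𝟙 X') a w F hF (isTorsion_lowerShriek a hF) q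
    (isZero_Rpush_finite (𝟙 X') F q hq)⟩
  obtain ⟨c⟩ := Groth.Agent.S0685.result a h
  obtain ⟨p⟩ := EtShriek24.lowerShriek_iso_push h
  exact ⟨(eqToIso (congrArg EtShriek.lowerShriek wab)).app F ≪≫ c.app F ≪≫ p.app _⟩

end Groth.Agent.PBCShriek6
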