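import Groth.Agent.Lib.PBCShriek6.DerSingle
import Groth.Agent.Lib.PBCShriek6.DerNat
import Groth.Agent.Lib.PBCShriek6.Exchange
import Groth.Agent.Lib.PBC24.Devissage
import Groth.Agent.Lib.PBC24.Main
import Groth.Prelude.Def_DEt2

/-!
# Extension by zero and a proper morphism between two compactifications
-/

set_option autoImplicit false
set_option linter.style.haveILetI false
set_option linter.unusedSectionVars false
set_option backward.isDefEq.respectTransparency false
set_option backward.isDefEq.respectTransparency.types false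

universe u

open CategoryTheory CategoryTheory.Limits AlgebraicGeometry Opposite

namespace Groth.Agent.PBCShriek6

attribute [local instance] HasDerivedCategory.standard

open Groth.Agent.EtStalk Groth.Agent.BcMapQ6

variable {X P P' : Scheme.{u}} (j : X ⟶ P) [IsOpenImmersion j] (j' : X ⟶ P') [IsOpenImmersion j']
  (p : P' ⟶ P) [IsProper p]

/-- Degree zero. -/
theorem nonempty_extZero_push (w : j' ≫ p = j) :
    Nonempty (EtShriek.extZero j ≅ EtShriek.extZero j' ⋙ EtCoh.push p) := by
  obtain ⟨e⟩ := EtShriek24.extZero_iso_lowerShriek j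
  obtain ⟨e'⟩ := EtShriek24.extZero_iso_lowerShriek j'
  obtain ⟨c⟩ := Groth.Agent.S0685.result j' p
  obtain ⟨q⟩ := EtShriek24.lowerShriek_iso_push p
  exact ⟨e ≪≫ eqToIso (congrArg EtShriek.lowerShriek w.symm) ≪≫ c ≪≫
    Functor.isoWhiskerRight e'.symm _ ≪≫ Functor.isoWhiskerLeft _ q⟩

variable [PreservesFiniteLimits (EtShriek.extZero j)] [PreservesFiniteLimits (EtShriek.extZero j')]
  [DCoh.HasRpushEt P' p]

/-- `j_! = Rp_* j'_!` on bounded below objects with torsion cohomology. -/
theorem nonempty_extZeroD_iso (w : j' ≫ p = j) (K : DCoh.DEt X) (a : ℤ) [K.IsGE a]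
    (hK : ∀ i : ℤ, EtCoh.IsTorsion (DCoh.HDEt K i)) :
    Nonempty ((DEt.extZeroD j).obj K ≅ (DCoh.RpushEt P' p).obj ((DEt.extZeroD j').obj K)) := by
  haveI : PreservesFiniteLimits (EtCoh.pull p) := EtStalk.preservesFiniteLimits_pull p
  obtain ⟨u⟩ := nonempty_extZero_push j j' p w
  obtain ⟨adjD⟩ := nonempty_adj p
  haveI : (EtShriek.extZero j).Additive := inferInstance
  haveI : (EtShriek.extZero j').Additive := inferInstance
  haveI : (EtCoh.pull p).Additive := (EtCoh.pullPushAdj p).left_adjoint_additive
  haveI : PreservesFiniteColimits (EtCoh.pull p) :=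
    haveI : (EtCoh.pull p).IsLeftAdjoint := (EtCoh.pullPushAdj p).isLeftAdjoint
    inferInstance
  let t : EtShriek.extZero j ⋙ EtCoh.pull p ⟶ EtShriek.extZero j' :=
    { app := fun F => ((EtCoh.pullPushAdj p).homEquiv _ _).symm (u.hom.app F)
      naturality := fun F G φ => by
        simp only [Functor.comp_map]
        rw [← Adjunction.homEquiv_naturality_left_symm, ← Adjunction.homEquiv_naturality_right_symm]
        exact congrArg _ (u.hom.naturality φ) }
  let ν := derNat (EtShriek.extZero j) (EtCoh.pull p) (EtShriek.extZero j') t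
  let τ : DEt.extZeroD j ⟶ DEt.extZeroD j' ⋙ DCoh.RpushEt P' p :=
    { app := fun O => adjD.homEquiv _ _ (ν.app O)
      naturality := fun O O' φ => by
        simp only [Functor.comp_map]
        rw [← Adjunction.homEquiv_naturality_left, ← Adjunction.homEquiv_naturality_right]
        exact congrArg _ (ν.naturality φ) }
  let Pt : ObjectProperty (EtCoh.Ab X) := ObjectProperty.isoClosure fun F => EtCoh.IsTorsion F
  letI := adjD.rightAdjointCommShift ℤ
  haveI := adjD.commShift_of_leftAdjoint ℤ
  haveI := adjD.isTriangulated_rightAdjoint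
  refine ⟨@asIso _ _ _ _ (τ.app K) (PBC24.isIso_app_of_isGE τ Pt ?_ ?_ ?_ K a inferInstance
    (fun q => Or.inl (ObjectProperty.le_isoClosure _ _ (hK q))))⟩
  · rintro n F ⟨F₀, hF₀, ⟨i⟩⟩
    have hF : EtCoh.IsTorsion F := EtColim.isTorsion_of_iso i.symm hF₀
    obtain ⟨e'⟩ := EtShriek24.extZero_iso_lowerShriek j'
    have hacyc : ∀ q : ℕ, 0 < q → IsZero ((EtCoh.Rpush p q).obj ((EtShriek.extZero j').obj F)) := fun q hq =>
      ((push_lowerShriek PBC24.properBC j' p j w.symm F hF).2 q hq).of_iso
        ((EtCoh.Rpush p q).mapIso (e'.app F))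
    have h1 := isIso_homEquiv_single p adjD (t.app F)
      (by simp only [t, Equiv.apply_symm_apply]; infer_instance) n hacyc
    have h2 := derNat_single (EtShriek.extZero j) (EtCoh.pull p) (EtShriek.extZero j') t n F
    rw [← h2, ← Category.assoc, Adjunction.homEquiv_naturality_right, Adjunction.homEquiv_naturality_left] at h1
    let ef := ((EtShriek.extZero j).mapDerivedCategorySingleFunctor n).app F
    let eg := (DCoh.RpushEt P' p).mapIso (((EtShriek.extZero j').mapDerivedCategorySingleFunctor n).app F)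
    let m : (DEt.extZeroD j).obj ((DerivedCategory.singleFunctor (EtCoh.Ab X) n).obj F) ⟶
        (DEt.extZeroD j' ⋙ DCoh.RpushEt P' p).obj ((DerivedCategory.singleFunctor (EtCoh.Ab X) n).obj F) :=
      adjD.homEquiv _ _ (ν.app _)
    show IsIso m
    have h3 : IsIso ((ef.inv ≫ m) ≫ eg.hom) := h1
    have h4 : m = ef.hom ≫ ((ef.inv ≫ m) ≫ eg.hom) ≫ eg.inv := by simp
    rw [h4]
    haveI := h3
    infer_instance
  · intro O m hO
    exact WayOut.isGE_mapDerivedCategory (EtShriek.extZero j) O m
  · intro O m hO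
    haveI := WayOut.isGE_mapDerivedCategory (EtShriek.extZero j') O m
    exact WayOut.isGE_rightAdjoint (EtCoh.pull p) adjD _ m

end Groth.Agent.PBCShriek6
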