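import Groth.Agent.Lib.BcMapQ6.AdjEt
import Groth.Agent.Lib.SitePAdj16.Single
import Groth.Agent.Lib.SiteCmp16.WayOut

/-!
# Derived direct images of sheaves placed in one degree, and transposes along the adjunctions
-/

set_option autoImplicit false
set_option linter.style.haveILetI false
set_option linter.unusedSectionVars false
set_option backward.isDefEq.respectTransparency false
set_option backward.isDefEq.respectTransparency.types false

universe u

open CategoryTheory CategoryTheory.Limits AlgebraicGeometry Opposite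

namespace Groth.Agent.PBCShriek6

attribute [local instance] HasDerivedCategory.standard

open Groth.Agent.EtStalk Groth.Agent.BcMapQ6

variable {X Y : Scheme.{u}} (p : X ⟶ Y) [DCoh.HasRpushEt X p]

/-- The cohomology of the derived direct image of a sheaf. -/
theorem nonempty_homology_RpushEt (G : EtCoh.Ab X) (q : ℕ) :
    Nonempty ((DerivedCategory.homologyFunctor (EtCoh.Ab Y) (q : ℤ)).obj
      ((DCoh.RpushEt X p).obj ((DerivedCategory.singleFunctor (EtCoh.Ab X) 0).obj G)) ≅
      (EtCoh.Rpush p q).obj G) :=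
  SitePAdj.nonempty_homology_single_iso (EtAcyc24.dUnit p) KInjLib.enoughKInj_of_grothendieck G q

/-- The cohomology of the derived direct image of a sheaf placed in any degree. -/
theorem nonempty_homology_RpushEt_shift (G : EtCoh.Ab X) (n : ℤ) (q : ℕ) :
    Nonempty ((DerivedCategory.homologyFunctor (EtCoh.Ab Y) (n + q)).obj
      ((DCoh.RpushEt X p).obj ((DerivedCategory.singleFunctor (EtCoh.Ab X) n).obj G)) ≅
      (EtCoh.Rpush p q).obj G) := by
  obtain ⟨e⟩ := nonempty_homology_RpushEt p G q
  obtain ⟨a⟩ := nonempty_adj p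
  letI := a.rightAdjointCommShift ℤ
  haveI := a.commShift_of_leftAdjoint ℤ
  haveI := a.isTriangulated_rightAdjoint
  exact ⟨(DerivedCategory.homologyFunctor (EtCoh.Ab Y) (n + q)).mapIso
      ((DCoh.RpushEt X p).mapIso ((((DerivedCategory.singleFunctors (EtCoh.Ab X)).shiftIso (-n) n 0
          (by simp)).app G).symm) ≪≫
        ((DCoh.RpushEt X p).commShiftIso (-n)).app _) ≪≫
    ((DerivedCategory.homologyFunctor (EtCoh.Ab Y) 0).shiftIso (-n) (n + q) q (by ring)).app _ ≪≫ e⟩

/-- The derived direct image of an acyclic sheaf is concentrated. -/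
theorem nonempty_RpushEt_single (G : EtCoh.Ab X) (n : ℤ) (hG : ∀ q : ℕ, 0 < q → IsZero ((EtCoh.Rpush p q).obj G)) :
    ∃ B : EtCoh.Ab Y, Nonempty ((DCoh.RpushEt X p).obj ((DerivedCategory.singleFunctor (EtCoh.Ab X) n).obj G) ≅
      (DerivedCategory.singleFunctor (EtCoh.Ab Y) n).obj B) := by
  obtain ⟨a⟩ := nonempty_adj p
  let O := (DCoh.RpushEt X p).obj ((DerivedCategory.singleFunctor (EtCoh.Ab X) n).obj G)
  haveI : O.IsGE n := WayOut.isGE_rightAdjoint (EtCoh.pull p) a _ n
  haveI : O.IsLE n := by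
    rw [DerivedCategory.isLE_iff]
    intro i hi
    obtain ⟨q, rfl⟩ : ∃ q : ℕ, i = n + q := ⟨(i - n).toNat, by omega⟩
    obtain ⟨e⟩ := nonempty_homology_RpushEt_shift p G n q
    exact (hG q (by omega)).of_iso e
  exact DerivedCategory.exists_iso_singleFunctor_obj_of_isGE_of_isLE O n

/-- The transpose of an isomorphism onto the direct image of an acyclic sheaf. -/
theorem isIso_homEquiv_single (adjD : EtBC.pullD p ⊣ DCoh.RpushEt X p) {A : EtCoh.Ab Y} {G : EtCoh.Ab X}
    (t : (EtCoh.pull p).obj A ⟶ G) (ht : IsIso ((EtCoh.pullPushAdj p).homEquiv A G t)) (n : ℤ)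
    (hG : ∀ q : ℕ, 0 < q → IsZero ((EtCoh.Rpush p q).obj G)) :
    IsIso (adjD.homEquiv _ _ (((EtCoh.pull p).mapDerivedCategorySingleFunctor n).hom.app A ≫
      (DerivedCategory.singleFunctor (EtCoh.Ab X) n).map t)) := by
  obtain ⟨B, ⟨φ⟩⟩ := nonempty_RpushEt_single p G n hG
  let SY := DerivedCategory.singleFunctor (EtCoh.Ab Y) n
  let SX := DerivedCategory.singleFunctor (EtCoh.Ab X) n
  let ε := (EtCoh.pull p).mapDerivedCategorySingleFunctor n
  let T := adjD.homEquiv _ _ (ε.hom.app A ≫ SX.map t)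
  let a : A ⟶ B := SY.preimage (T ≫ φ.hom)
  have ha : SY.map a = T ≫ φ.hom := SY.map_preimage _
  have key : ∀ (A' : EtCoh.Ab Y) (x : A' ⟶ A), SY.map (x ≫ a) ≫ φ.inv =
      adjD.homEquiv _ _ (ε.hom.app A' ≫ SX.map ((EtCoh.pull p).map x ≫ t)) := fun A' x => by
    rw [Functor.map_comp, ha, Category.assoc, Category.assoc, Iso.hom_inv_id, Category.comp_id,
      ← Adjunction.homEquiv_naturality_left, Functor.map_comp]
    refine congrArg _ ?_
    rw [← Category.assoc, ← Category.assoc]
    exact congrArg (· ≫ SX.map t) (ε.hom.naturality x)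
  haveI := ht
  let u := (EtCoh.pullPushAdj p).homEquiv A G t
  have hbij : ∀ A' : EtCoh.Ab Y, Function.Bijective (fun x : A' ⟶ A => x ≫ a) := fun A' => by
    have h1 : ∀ x : A' ⟶ A, ((EtCoh.pullPushAdj p).homEquiv A' G).symm (x ≫ u) = (EtCoh.pull p).map x ≫ t :=
      fun x => by rw [← Adjunction.homEquiv_naturality_left, Equiv.symm_apply_apply]
    constructor
    · intro x y h
      have h2 := (key A' x).symm.trans ((congrArg (fun z => SY.map z ≫ φ.inv) h).trans (key A' y))
      have h3 := SX.map_injective ((cancel_epi (ε.hom.app A')).1 ((adjD.homEquiv _ _).injective h2))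
      rw [← h1, ← h1] at h3
      exact (cancel_mono u).1 (((EtCoh.pullPushAdj p).homEquiv A' G).symm.injective h3)
    · intro y
      let z := ε.inv.app A' ≫ (adjD.homEquiv _ _).symm (SY.map y ≫ φ.inv)
      refine ⟨(EtCoh.pullPushAdj p).homEquiv A' G (SX.preimage z) ≫ inv u, ?_⟩
      refine SY.map_injective ((cancel_mono φ.inv).1 ?_)
      refine (key A' _).trans ?_
      rw [← h1, Category.assoc, IsIso.inv_hom_id, Category.comp_id, Equiv.symm_apply_apply,
        Functor.map_preimage]
      refine ((adjD.homEquiv _ _).apply_eq_iff_eq_symm_apply).2 ?_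
      exact Iso.hom_inv_id_app_assoc ε A' _
  haveI : IsIso a := by
    obtain ⟨r, hr⟩ := (hbij B).2 (𝟙 B)
    exact ⟨r, (hbij A).1 (by simp only [Category.assoc, Category.id_comp, hr, Category.comp_id]), hr⟩
  have : T = SY.map a ≫ φ.inv := by rw [ha, Category.assoc, Iso.hom_inv_id, Category.comp_id]
  show IsIso T
  rw [this]
  infer_instance

end Groth.Agent.PBCShriek6
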