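import Groth.Agent.Lib.PBCShriek6.DerShriek
import Groth.Agent.Lib.PBC24.BoundedBelow
import Groth.Agent.Lib.ExtShriek24.Iso
import Groth.Agent.S8603

/-!
# Independence of the compactification, composition and base change
-/

set_option autoImplicit false
set_option linter.style.haveILetI false
set_option linter.unusedSectionVars false
set_option backward.isDefEq.respectTransparency false
set_option backward.isDefEq.respectTransparency.types false

universe u

open CategoryTheory CategoryTheory.Limits AlgebraicGeometry Opposite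

namespace Groth.Agent.PBCShriek6

attribute [local instance] HasDerivedCategory.standard

open Groth.Agent.EtStalk Groth.Agent.BcMapQ6

/-- Inverse image of torsion sheaves in extension by zero. -/
theorem isTorsion_extZero {X P : Scheme.{u}} (j : X ⟶ P) [IsOpenImmersion j] {F : EtCoh.Ab X}
    (hF : EtCoh.IsTorsion F) : EtCoh.IsTorsion ((EtShriek.extZero j).obj F) := by
  obtain ⟨e⟩ := EtShriek24.extZero_iso_lowerShriek j
  exact EtColim.isTorsion_of_iso (e.app F).symm (isTorsion_lowerShriek j hF)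

/-- Bounded below in the sense of the t-structure. -/
theorem exists_isGE {X : Scheme.{u}} {K : DCoh.DEt X}
    (hb : ∃ a : ℤ, ∀ n : ℤ, n < a → IsZero (DCoh.HDEt K n)) : ∃ a : ℤ, K.IsGE a := by
  obtain ⟨a, ha⟩ := hb
  exact ⟨a, (DerivedCategory.isGE_iff K a).2 ha⟩

/-- The cohomology of `j_!` of an object. -/
theorem isTorsion_extZeroD {X P : Scheme.{u}} (j : X ⟶ P) [IsOpenImmersion j]
    [PreservesFiniteLimits (EtShriek.extZero j)] {K : DCoh.DEt X}
    (hK : ∀ i : ℤ, EtCoh.IsTorsion (DCoh.HDEt K i)) (i : ℤ) :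
    EtCoh.IsTorsion (DCoh.HDEt ((DEt.extZeroD j).obj K) i) :=
  EtColim.isTorsion_of_iso ((WayOut.mapDerivedHomologyIso (EtShriek.extZero j) i).app K).symm
    (isTorsion_extZero j (hK i))

/-- Derived direct images compose. -/
theorem nonempty_RpushEt_comp {A B C : Scheme.{u}} (p : A ⟶ B) (f : B ⟶ C) (h : A ⟶ C) (w : p ≫ f = h)
    [DCoh.HasRpushEt A p] [DCoh.HasRpushEt B f] [DCoh.HasRpushEt A h] :
    Nonempty (DCoh.RpushEt A p ⋙ DCoh.RpushEt B f ≅ DCoh.RpushEt A h) := by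
  subst w
  haveI hpl : ∀ {Y Z : Scheme.{u}} (g : Y ⟶ Z), PreservesFiniteLimits (EtCoh.pull g) :=
    fun g => EtStalk.preservesFiniteLimits_pull g
  haveI hadd : ∀ {Y Z : Scheme.{u}} (g : Y ⟶ Z), (EtCoh.pull g).Additive :=
    fun g => (EtCoh.pullPushAdj g).left_adjoint_additive
  haveI hpc : ∀ {Y Z : Scheme.{u}} (g : Y ⟶ Z), PreservesFiniteColimits (EtCoh.pull g) := fun g =>
    haveI : (EtCoh.pull g).IsLeftAdjoint := (EtCoh.pullPushAdj g).isLeftAdjoint
    inferInstance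
  obtain ⟨a⟩ := nonempty_adj p
  obtain ⟨b⟩ := nonempty_adj f
  obtain ⟨c⟩ := nonempty_adj (p ≫ f)
  let e : EtBC.pullD f ⋙ EtBC.pullD p ≅ EtBC.pullD (p ≫ f) :=
    compIso (EtCoh.pull f) (EtCoh.pull p) (EtCoh.pull (p ≫ f)) (EtCore.pullComp p f).symm
  exact ⟨((b.comp a).ofNatIsoLeft e).rightAdjointUniq c⟩

section Indep

variable {X Y : Scheme.{u}} {f : X ⟶ Y}

/-- Comparison with a compactification above. -/
theorem nonempty_Rshriek_dominated (c c'' : DEt.Compactification f) [PreservesFiniteLimits (EtShriek.extZero c.j)]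
    [DCoh.HasRpushEt c.Xbar c.fbar] [PreservesFiniteLimits (EtShriek.extZero c''.j)]
    [DCoh.HasRpushEt c''.Xbar c''.fbar] (p : c''.Xbar ⟶ c.Xbar) [IsProper p] (hj : c''.j ≫ p = c.j)
    (hf : p ≫ c.fbar = c''.fbar) (K : DCoh.DEt X) (a : ℤ) [K.IsGE a]
    (hK : ∀ i : ℤ, EtCoh.IsTorsion (DCoh.HDEt K i)) :
    Nonempty ((DEt.Rshriek c).obj K ≅ (DEt.Rshriek c'').obj K) := by
  haveI : DCoh.HasRpushEt c''.Xbar p := hasRpushEt _ p
  obtain ⟨e⟩ := nonempty_extZeroD_iso c.j c''.j p hj K a hK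
  obtain ⟨r⟩ := nonempty_RpushEt_comp p c.fbar c''.fbar hf
  exact ⟨(DCoh.RpushEt c.Xbar c.fbar).mapIso e ≪≫ r.app _⟩

/-- Independence of the compactification (S0767). -/
theorem nonempty_Rshriek_indep [CompactSpace X] [QuasiSeparatedSpace X] [CompactSpace Y] [QuasiSeparatedSpace Y]
    (c : DEt.Compactification f) [PreservesFiniteLimits (EtShriek.extZero c.j)] [DCoh.HasRpushEt c.Xbar c.fbar]
    (c' : DEt.Compactification f) [PreservesFiniteLimits (EtShriek.extZero c'.j)]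
    [DCoh.HasRpushEt c'.Xbar c'.fbar] (K : DCoh.DEt X) (a : ℤ) [K.IsGE a]
    (hK : ∀ i : ℤ, EtCoh.IsTorsion (DCoh.HDEt K i)) :
    Nonempty ((DEt.Rshriek c).obj K ≅ (DEt.Rshriek c').obj K) := by
  obtain ⟨d, p₁, p₂, h₁, h₂, hj₁, hj₂, hf₁, hf₂⟩ := Groth.Agent.S8603.result c c'
  haveI := h₁; haveI := h₂
  haveI : DCoh.HasRpushEt d.Xbar d.fbar := hasRpushEt _ d.fbar
  haveI : PreservesFiniteLimits (EtShriek.extZero d.j) := inferInstance
  obtain ⟨e₁⟩ := nonempty_Rshriek_dominated c d p₁ hj₁ hf₁ K a hK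
  obtain ⟨e₂⟩ := nonempty_Rshriek_dominated c' d p₂ hj₂ hf₂ K a hK
  exact ⟨e₁ ≪≫ e₂.symm⟩

/-- Base change (S0773). -/
theorem nonempty_Rshriek_baseChange [CompactSpace X] [QuasiSeparatedSpace X] {X' Y' : Scheme.{u}}
    [CompactSpace X'] [QuasiSeparatedSpace X'] [CompactSpace Y'] [QuasiSeparatedSpace Y'] (g : Y' ⟶ Y)
    {f' : X' ⟶ Y'} (g' : X' ⟶ X) (hc : IsPullback g' f' f g) (c : DEt.Compactification f)
    [PreservesFiniteLimits (EtShriek.extZero c.j)] [DCoh.HasRpushEt c.Xbar c.fbar]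
    (c' : DEt.Compactification f') [PreservesFiniteLimits (EtShriek.extZero c'.j)]
    [DCoh.HasRpushEt c'.Xbar c'.fbar] [PreservesFiniteLimits (EtCoh.pull g)]
    [PreservesFiniteLimits (EtCoh.pull g')] (K : DCoh.DEt X) (a : ℤ) [K.IsGE a]
    (hK : ∀ i : ℤ, EtCoh.IsTorsion (DCoh.HDEt K i)) :
    Nonempty (((EtCoh.pull g).mapDerivedCategory).obj ((DEt.Rshriek c).obj K) ≅
      (DEt.Rshriek c').obj (((EtCoh.pull g').mapDerivedCategory).obj K)) := by
  let P := pullback c.fbar g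
  let q := pullback.fst c.fbar g
  let fb := pullback.snd c.fbar g
  let j₂ : X' ⟶ P := pullback.lift (g' ≫ c.j) f' (by rw [Category.assoc, c.fac, hc.w])
  have sq : IsPullback g' j₂ c.j q :=
    IsPullback.of_bot (h₂₁ := q) (v₂₁ := fb) (v₂₂ := c.fbar)
      (by rw [pullback.lift_snd, c.fac]; exact hc) (pullback.lift_fst _ _ _).symm (IsPullback.of_hasPullback _ _)
  haveI : IsOpenImmersion j₂ := MorphismProperty.of_isPullback sq inferInstance
  let d : DEt.Compactification f' := ⟨P, j₂, fb, inferInstance, inferInstance, pullback.lift_snd _ _ _⟩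
  haveI : DCoh.HasRpushEt d.Xbar d.fbar := hasRpushEt _ _
  haveI : DCoh.HasRpushEt P fb := hasRpushEt _ _
  haveI : DCoh.HasRpushEt Y' g := hasRpushEt _ _
  haveI : PreservesFiniteLimits (EtShriek.extZero d.j) := inferInstance
  haveI : PreservesFiniteLimits (EtShriek.extZero j₂) := inferInstance
  haveI : PreservesFiniteLimits (EtCoh.pull q) := EtStalk.preservesFiniteLimits_pull q
  haveI hadd : ∀ {Y Z : Scheme.{u}} (g : Y ⟶ Z), (EtCoh.pull g).Additive :=
    fun g => (EtCoh.pullPushAdj g).left_adjoint_additive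
  haveI hpc : ∀ {Y Z : Scheme.{u}} (g : Y ⟶ Z), PreservesFiniteColimits (EtCoh.pull g) := fun g =>
    haveI : (EtCoh.pull g).IsLeftAdjoint := (EtCoh.pullPushAdj g).isLeftAdjoint
    inferInstance
  obtain ⟨adj⟩ := nonempty_adj g
  haveI : ((DEt.extZeroD c.j).obj K).IsGE a := WayOut.isGE_mapDerivedCategory (EtShriek.extZero c.j) K a
  haveI := PBC24.isIso_bcMap_boundedBelow PBC24.properBC c.fbar g fb q (IsPullback.of_hasPullback _ _) adj
    ((DEt.extZeroD c.j).obj K) a (isTorsion_extZeroD c.j hK)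
  haveI : (((EtCoh.pull g').mapDerivedCategory).obj K).IsGE a := WayOut.isGE_mapDerivedCategory (EtCoh.pull g') K a
  obtain ⟨e⟩ := nonempty_Rshriek_indep d c' (((EtCoh.pull g').mapDerivedCategory).obj K) a (fun i =>
    EtColim.isTorsion_of_iso ((WayOut.mapDerivedHomologyIso (EtCoh.pull g') i).app K).symm
      (FieldBr3.isTorsion_pull' g' (hK i)))
  let bc : EtShriek.extZero c.j ⋙ EtCoh.pull q ≅ EtCoh.pull g' ⋙ EtShriek.extZero j₂ :=
    (ExtShriek24.extZeroBC c.j q j₂ g' sq.flip).symm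
  haveI : (EtCoh.pull g' ⋙ EtShriek.extZero j₂).Additive := inferInstance
  haveI : PreservesFiniteLimits (EtCoh.pull g' ⋙ EtShriek.extZero j₂) := comp_preservesFiniteLimits _ _
  haveI : PreservesFiniteColimits (EtCoh.pull g' ⋙ EtShriek.extZero j₂) := comp_preservesFiniteColimits _ _
  let e₁ := (compIso (EtShriek.extZero c.j) (EtCoh.pull q) _ bc).app K ≪≫
    ((compIso (EtCoh.pull g') (EtShriek.extZero j₂) _ (Iso.refl _)).app K).symm
  exact ⟨asIso (EtBC.bcMap c.fbar g fb q (IsPullback.of_hasPullback c.fbar g).w adj ((DEt.extZeroD c.j).obj K)) ≪≫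
    (DCoh.RpushEt P fb).mapIso e₁ ≪≫ e⟩

end Indep

end Groth.Agent.PBCShriek6
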