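import Groth.Agent.Lib.PBCShriek6.DerShriek
import Groth.Agent.Lib.SiteCmp16.WayOut

/-!
# Direct image with proper support of a quasi-finite morphism
-/

set_option autoImplicit false
set_option linter.style.haveILetI false
set_option linter.unusedSectionVars false
set_option backward.isDefEq.respectTransparency false
set_option backward.isDefEq.respectTransparency.types false

universe u

open CategoryTheory CategoryTheory.Limits AlgebraicGeometry Opposite

namespace Groth.Agent.PBCShriek6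

attribute [local instance] HasDerivedCategory.standard

open Groth.Agent.EtStalk Groth.Agent.BcMapQ6

/-- `Rf_!` of a torsion sheaf for quasi-finite `f` (S0772). -/
theorem Rshriek_qfinite {X Y : Scheme.{u}} (f : X ⟶ Y) [IsSeparated f] [LocallyOfFiniteType f]
    [LocallyQuasiFinite f] (c : DEt.Compactification f) [PreservesFiniteLimits (EtShriek.extZero c.j)]
    [DCoh.HasRpushEt c.Xbar c.fbar] (F : EtCoh.Ab X) (hF : EtCoh.IsTorsion F) :
    Nonempty (DCoh.HDEt ((DEt.Rshriek c).obj ((DerivedCategory.singleFunctor (EtCoh.Ab X) 0).obj F)) 0 ≅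
      (EtShriek.lowerShriek f).obj F) ∧
    ∀ n : ℤ, n ≠ 0 → IsZero (DCoh.HDEt ((DEt.Rshriek c).obj
      ((DerivedCategory.singleFunctor (EtCoh.Ab X) 0).obj F)) n) := by
  obtain ⟨⟨e₀⟩, hz⟩ := push_lowerShriek PBC24.properBC c.j c.fbar f c.fac.symm F hF
  obtain ⟨ej⟩ := EtShriek24.extZero_iso_lowerShriek c.j
  let G := (EtShriek.extZero c.j).obj F
  let ε : (DEt.Rshriek c).obj ((DerivedCategory.singleFunctor (EtCoh.Ab X) 0).obj F) ≅
      (DCoh.RpushEt c.Xbar c.fbar).obj ((DerivedCategory.singleFunctor (EtCoh.Ab c.Xbar) 0).obj G) :=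
    (DCoh.RpushEt c.Xbar c.fbar).mapIso (((EtShriek.extZero c.j).mapDerivedCategorySingleFunctor 0).app F)
  refine ⟨?_, fun n hn => ?_⟩
  · obtain ⟨h⟩ := nonempty_homology_RpushEt c.fbar G 0
    exact ⟨(DerivedCategory.homologyFunctor _ 0).mapIso ε ≪≫ h ≪≫
      (haveI : (EtCoh.push c.fbar).IsRightAdjoint := (EtCoh.pullPushAdj c.fbar).isRightAdjoint
       (EtCoh.push c.fbar).rightDerivedZeroIsoSelf.app G) ≪≫
      (EtCoh.push c.fbar).mapIso (ej.app F) ≪≫ e₀.symm⟩
  · refine IsZero.of_iso ?_ ((DerivedCategory.homologyFunctor _ n).mapIso ε)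
    rcases lt_or_gt_of_ne hn with h | h
    · obtain ⟨a⟩ := nonempty_adj c.fbar
      haveI : PreservesFiniteLimits (EtCoh.pull c.fbar) := EtStalk.preservesFiniteLimits_pull _
      haveI := WayOut.isGE_rightAdjoint (EtCoh.pull c.fbar) a
        ((DerivedCategory.singleFunctor (EtCoh.Ab c.Xbar) 0).obj G) 0
      exact DerivedCategory.isZero_of_isGE _ 0 n h
    · obtain ⟨q, rfl⟩ := Int.eq_ofNat_of_zero_le h.le
      obtain ⟨e⟩ := nonempty_homology_RpushEt c.fbar G q
      exact ((hz q (by omega)).of_iso ((EtCoh.Rpush c.fbar q).mapIso (ej.app F))).of_iso e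

end Groth.Agent.PBCShriek6
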