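import Groth.Agent.Lib.RpushSum24.Basic
import Groth.Agent.Lib.BcMapQ6.AdjEt
import Groth.Agent.Lib.SiteCmp16.WayOut
import Groth.Agent.Lib.PBCShriek6.Basic
import Mathlib.Algebra.Homology.DerivedCategory.DerivabilityStructureInjectives

/-!
# Derived direct images commute with sums of uniformly bounded below families
-/

set_option autoImplicit false
set_option linter.style.haveILetI false
set_option linter.unusedSectionVars false
set_option backward.isDefEq.respectTransparency false
set_option backward.isDefEq.respectTransparency.types false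

universe u

open CategoryTheory CategoryTheory.Limits AlgebraicGeometry Opposite

namespace Groth.Agent.PBCShriek6

attribute [local instance] HasDerivedCategory.standard

open EtColim (secFun)
open RpushSum24

variable {X S : Scheme.{u}} (f : X ⟶ S) [QuasiCompact f] [QuasiSeparated f]

/-- Direct image preserves quasi-isomorphisms between bounded below complexes with acyclic terms. -/
theorem quasiIso_push_of_bb {K L : CochainComplex (EtCoh.Ab X) ℤ} (g : K ⟶ L) [QuasiIso g] (a : ℤ)
    [K.IsStrictlyGE (a + 1)] [L.IsStrictlyGE a]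
    (hK : ∀ U : X.Etale, CompactSpace ↥(U.left) → QuasiSeparatedSpace ↥(U.left) →
      ∀ m, RFPlus.IsAcyclicObj (secFun U) (K.X m))
    (hL : ∀ U : X.Etale, CompactSpace ↥(U.left) → QuasiSeparatedSpace ↥(U.left) →
      ∀ m, RFPlus.IsAcyclicObj (secFun U) (L.X m)) :
    QuasiIso (((EtCoh.push f).mapHomologicalComplex (ComplexShape.up ℤ)).map g) := by
  rw [RFPlus.quasiIso_iff_acyclic_cone]
  refine acyclic_of_secFun _ fun V _ => ?_
  obtain ⟨h1, h2⟩ := qcqs_bc f V inferInstance inferInstance
  let W := (EtCoh.bc f).obj V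
  have hq : QuasiIso (((secFun V).mapHomologicalComplex (ComplexShape.up ℤ)).map
      (((EtCoh.push f).mapHomologicalComplex (ComplexShape.up ℤ)).map g)) :=
    RFPlus.quasiIso_map_of_acyclic_terms (secFun W) g a (hK W h1 h2) (hL W h1 h2)
  intro i
  exact ((RFPlus.quasiIso_iff_acyclic_cone _).1 hq i).of_iso
    (CochainComplex.mappingCone.mapHomologicalComplexIso _ (secFun V)).symm

variable [DCoh.HasRpushEt X f]

/-- Derived direct images commute with sums of uniformly bounded below families. -/
theorem preservesColimit_Rpush_bb {ι : Type (u + 1)} (K : ι → DCoh.DEt X) (a : ℤ) (hK : ∀ i, (K i).IsGE a) :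
    PreservesColimit (Discrete.functor K) (DCoh.RpushEt X f) := by
  haveI := preservesCoproducts_push f ι
  let F := EtCoh.push f
  let RF := DCoh.RpushEt X f
  let α := (DCoh.pushEtKh X f).totalRightDerivedUnit DerivedCategory.Qh
    (HomotopyCategory.quasiIso (EtCoh.Ab X) (ComplexShape.up ℤ))
  have hres : ∀ i, ∃ (I : CochainComplex (EtCoh.Ab X) ℤ), I.IsStrictlyGE a ∧ (∀ n, Injective (I.X n)) ∧
      Nonempty (K i ≅ DerivedCategory.Q.obj I) := fun i => by
    haveI := hK i
    obtain ⟨L, hL, ⟨e⟩⟩ := DerivedCategory.exists_iso_Q_obj_of_isGE (K i) a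
    obtain ⟨I, j, _, _, _⟩ := CochainComplex.Plus.modelCategoryQuillen.exists_quasiIso_injective L a
    haveI : IsIso (DerivedCategory.Q.map j) := by rw [DerivedCategory.isIso_Q_map_iff_quasiIso]; infer_instance
    exact ⟨I, inferInstance, inferInstance, ⟨e ≪≫ asIso (DerivedCategory.Q.map j)⟩⟩
  choose I hge hinj he using hres
  haveI : ∀ i, (I i).IsKInjective := fun i =>
    haveI := hge i
    haveI := hinj i
    CochainComplex.isKInjective_of_injective _ a
  haveI hS : (∐ I).IsStrictlyGE (a - 1 + 1) := by
    rw [CochainComplex.isStrictlyGE_iff]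
    intro i hi
    refine IsZero.of_iso ?_ (PreservesCoproduct.iso (HomologicalComplex.eval (EtCoh.Ab X) (ComplexShape.up ℤ) i) I)
    rw [IsZero.iff_id_eq_zero]
    exact Sigma.hom_ext _ _ fun j =>
      haveI := hge j
      ((I j).isZero_of_isStrictlyGE a i (by omega)).eq_of_src _ _
  haveI : (∐ I).IsStrictlyGE (a - 1) := (∐ I).isStrictlyGE_of_ge (a - 1) (a - 1 + 1) (by omega)
  obtain ⟨J, g, _, _, hJge⟩ := CochainComplex.Plus.modelCategoryQuillen.exists_quasiIso_injective (∐ I) (a - 1)
  haveI : J.IsKInjective := CochainComplex.isKInjective_of_injective _ (a - 1)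
  haveI hP : IsIso ((AcyclicSum8.β F RF α).app (∐ I)) := by
    rw [AcyclicSum8.isIso_β_iff F RF α g]
    refine quasiIso_push_of_bb f g (a - 1) (fun U h1 h2 m => ?_) fun U _ _ m => ?_
    · intro q hq
      refine ((isAcyclicObj_sigma U h1 h2 ι (fun i => (I i).X m) fun i => ?_) q hq).of_iso
        (((secFun U).rightDerived q).mapIso (PreservesCoproduct.iso
          (HomologicalComplex.eval (EtCoh.Ab X) (ComplexShape.up ℤ) m) I))
      haveI := hinj i m
      exact RFPlus.isAcyclicObj_injective _ _
    · exact RFPlus.isAcyclicObj_injective _ _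
  let c := Cofan.mk ((F.mapHomologicalComplex (ComplexShape.up ℤ)).obj (∐ I))
    fun a => (F.mapHomologicalComplex (ComplexShape.up ℤ)).map (Sigma.ι I a)
  have hc : IsColimit c := HomologicalComplex.isColimitOfEval _ _ fun m =>
    (isColimitMapCoconeCofanMkEquiv (HomologicalComplex.eval (EtCoh.Ab S) (ComplexShape.up ℤ) m) _ _).symm
      (isColimitCofanMkObjOfIsColimit F _ _
        (isColimitCofanMkObjOfIsColimit (HomologicalComplex.eval (EtCoh.Ab X) (ComplexShape.up ℤ) m) _ _
          (coproductIsCoproduct I)))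
  obtain ⟨h1⟩ := AcyclicSum8.isColimit_Q c hc
  obtain ⟨h2⟩ := AcyclicSum8.isColimit_Q (Cofan.mk (∐ I) (Sigma.ι I)) (coproductIsCoproduct I)
  let e : ∀ i, DerivedCategory.Q.obj ((F.mapHomologicalComplex (ComplexShape.up ℤ)).obj (I i)) ≅
      RF.obj (DerivedCategory.Q.obj (I i)) := fun i =>
    @asIso _ _ _ _ ((AcyclicSum8.β F RF α).app (I i)) (AcyclicSum8.isIso_β_kinj F RF α (I i))
  haveI : PreservesColimit (Discrete.functor fun i => DerivedCategory.Q.obj (I i)) RF :=
    preservesColimit_of_preserves_colimit_cocone h2 ((isColimitMapCoconeCofanMkEquiv RF _ _).symm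
      (((IsColimit.precomposeHomEquiv (Discrete.natIso fun a => e a.as).symm _).symm h1).ofIsoColimit
        (Cocone.ext (@asIso _ _ _ _ ((AcyclicSum8.β F RF α).app (∐ I)) hP) fun ⟨a⟩ => by
          change ((e a).inv ≫ _) ≫ _ = _
          rw [Category.assoc, Iso.inv_comp_eq]
          exact (AcyclicSum8.β F RF α).naturality (Sigma.ι I a))))
  exact preservesColimit_of_iso_diagram RF (Discrete.natIso fun a => (he a.as).some.symm :
    (Discrete.functor fun i => DerivedCategory.Q.obj (I i)) ≅ Discrete.functor K)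

end Groth.Agent.PBCShriek6
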