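import Groth.Agent.Lib.PBCShriek6.SumBB
import Groth.Agent.Lib.KInj.DerivedAdj
import Groth.Agent.Lib.EtStalk.Restr
import Groth.Agent.Lib.EtStalk.Push
import Groth.Prelude.Def_DEt2
import Mathlib.CategoryTheory.Localization.Adjunction

/-!
# Derived direct image with proper support commutes with sums
-/

set_option autoImplicit false
set_option linter.style.haveILetI false
set_option linter.unusedSectionVars false
set_option backward.isDefEq.respectTransparency false
set_option backward.isDefEq.respectTransparency.types false

universe u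

open CategoryTheory CategoryTheory.Limits AlgebraicGeometry Opposite

namespace Groth.Agent.PBCShriek6

attribute [local instance] HasDerivedCategory.standard

/-- Extension by zero on derived categories commutes with colimits. -/
theorem isLeftAdjoint_extZeroD {U X : Scheme.{u}} (j : U ⟶ X) [IsOpenImmersion j]
    [PreservesFiniteLimits (EtShriek.extZero j)] : (DEt.extZeroD j).IsLeftAdjoint := by
  haveI : PreservesFiniteColimits (EtShriek.restrAlong j) :=
    haveI : (EtCoh.pull j).IsLeftAdjoint := (EtCoh.pullPushAdj j).isLeftAdjoint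
    preservesFiniteColimits_of_natIso (EtStalk.restrPullIso j).symm
  let F := EtShriek.extZero j
  let G := EtShriek.restrAlong j
  letI : CatCommSq (F.mapHomologicalComplex (ComplexShape.up ℤ)) DerivedCategory.Q DerivedCategory.Q
    F.mapDerivedCategory := ⟨F.mapDerivedCategoryFactors.symm⟩
  letI : CatCommSq (G.mapHomologicalComplex (ComplexShape.up ℤ)) DerivedCategory.Q DerivedCategory.Q
    G.mapDerivedCategory := ⟨G.mapDerivedCategoryFactors.symm⟩
  exact ((KInjLib.adjComplexes (EtShriek.extZeroAdj j) (ComplexShape.up ℤ)).localization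
    DerivedCategory.Q (HomologicalComplex.quasiIso (EtCoh.Ab U) (ComplexShape.up ℤ))
    DerivedCategory.Q (HomologicalComplex.quasiIso (EtCoh.Ab X) (ComplexShape.up ℤ))
    F.mapDerivedCategory G.mapDerivedCategory).isLeftAdjoint

/-- Direct image with proper support commutes with sums of uniformly bounded below families. -/
theorem preservesColimit_Rshriek {X Y : Scheme.{u}} {f : X ⟶ Y} (c : DEt.Compactification f)
    [PreservesFiniteLimits (EtShriek.extZero c.j)] [DCoh.HasRpushEt c.Xbar c.fbar] {ι : Type u}
    (K : ι → DCoh.DEt X) (a : ℤ) (hK : ∀ i, (K i).IsGE a) :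
    PreservesColimit (Discrete.functor K) (DEt.Rshriek c) := by
  haveI := isLeftAdjoint_extZeroD c.j
  let L : ι → DCoh.DEt c.Xbar := fun i => (DEt.extZeroD c.j).obj (K i)
  have hL : ∀ i, (L i).IsGE a := fun i =>
    haveI := hK i
    WayOut.isGE_mapDerivedCategory (EtShriek.extZero c.j) (K i) a
  let e : Discrete (ULift.{u + 1} ι) ≌ Discrete ι := Discrete.equivalence Equiv.ulift
  haveI h0 : PreservesColimit (Discrete.functor L) (DCoh.RpushEt c.Xbar c.fbar) := by
    haveI := preservesColimit_Rpush_bb c.fbar (fun i : ULift.{u + 1} ι => L i.down) a fun i => hL i.down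
    constructor
    intro s hs
    haveI : PreservesColimit (e.functor ⋙ Discrete.functor L) (DCoh.RpushEt c.Xbar c.fbar) :=
      preservesColimit_of_iso_diagram _ (Discrete.natIso fun _ => Iso.refl _ :
        Discrete.functor (fun i : ULift.{u + 1} ι => L i.down) ≅ e.functor ⋙ Discrete.functor L)
    exact ⟨IsColimit.ofWhiskerEquivalence e
      (isColimitOfPreserves (DCoh.RpushEt c.Xbar c.fbar) (IsColimit.whiskerEquivalence hs e))⟩
  haveI : PreservesColimit (Discrete.functor K ⋙ DEt.extZeroD c.j) (DCoh.RpushEt c.Xbar c.fbar) :=
    preservesColimit_of_iso_diagram _ (Discrete.natIso fun _ => Iso.refl _ :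
      Discrete.functor L ≅ Discrete.functor K ⋙ DEt.extZeroD c.j)
  infer_instance

end Groth.Agent.PBCShriek6
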