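import Groth.Agent.Lib.PBCShriek6.Indep
import Groth.Agent.Lib.PBCShriek6.Sums

/-!
# A proper morphism and extension by zero from an open subscheme of the base
-/

set_option autoImplicit false
set_option linter.style.haveILetI false
set_option linter.unusedSectionVars false
set_option backward.isDefEq.respectTransparency false
set_option backward.isDefEq.respectTransparency.types false

universe u

open CategoryTheory CategoryTheory.Limits AlgebraicGeometry Opposite

namespace Groth.Agent.PBCShriek6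

attribute [local instance] HasDerivedCategory.standard

open Groth.Agent.EtStalk Groth.Agent.BcMapQ6

/-- An object without cohomology is zero. -/
theorem isZero_of_homology {X : Scheme.{u}} (K : DCoh.DEt X) (h : ∀ i : ℤ, IsZero (DCoh.HDEt K i)) : IsZero K := by
  have h0 : IsIso (0 : K ⟶ K) := (DerivedCategory.isIso_iff _ _).2 fun i =>
    isIso_of_source_target_iso_zero _ (h i).isoZero (h i).isoZero
  rw [IsZero.iff_id_eq_zero, ← IsIso.hom_inv_id (0 : K ⟶ K), zero_comp]

/-- Sheaves of cohomology of inverse images of torsion cohomology are torsion. -/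
theorem isTorsion_pullD {X Y : Scheme.{u}} (f : X ⟶ Y) [PreservesFiniteLimits (EtCoh.pull f)] {K : DCoh.DEt Y}
    (hK : ∀ i : ℤ, EtCoh.IsTorsion (DCoh.HDEt K i)) (i : ℤ) :
    EtCoh.IsTorsion (DCoh.HDEt ((EtBC.pullD f).obj K) i) := by
  haveI : (EtCoh.pull f).Additive := (EtCoh.pullPushAdj f).left_adjoint_additive
  haveI : PreservesFiniteColimits (EtCoh.pull f) :=
    haveI : (EtCoh.pull f).IsLeftAdjoint := (EtCoh.pullPushAdj f).isLeftAdjoint
    inferInstance
  exact EtColim.isTorsion_of_iso ((WayOut.mapDerivedHomologyIso (EtCoh.pull f) i).app K).symm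
    (FieldBr3.isTorsion_pull' f (hK i))

/-- Restriction to an open subscheme is exact. -/
theorem preservesFiniteColimits_restrAlong {U X : Scheme.{u}} (j : U ⟶ X) [IsOpenImmersion j] :
    PreservesFiniteColimits (EtShriek.restrAlong j) :=
  haveI : (EtCoh.pull j).IsLeftAdjoint := (EtCoh.pullPushAdj j).isLeftAdjoint
  preservesFiniteColimits_of_natIso (EtStalk.restrPullIso j).symm

/-- Extension by zero on derived categories is fully faithful and left adjoint to restriction. -/
theorem exists_adj_extZeroD {U X : Scheme.{u}} (j : U ⟶ X) [IsOpenImmersion j]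
    [PreservesFiniteLimits (EtShriek.extZero j)] [PreservesFiniteColimits (EtShriek.restrAlong j)] :
    ∃ A : DEt.extZeroD j ⊣ DEt.restrD j, IsIso A.unit := by
  let F := EtShriek.extZero j
  let G := EtShriek.restrAlong j
  letI : CatCommSq (F.mapHomologicalComplex (ComplexShape.up ℤ)) DerivedCategory.Q DerivedCategory.Q
    F.mapDerivedCategory := ⟨F.mapDerivedCategoryFactors.symm⟩
  letI : CatCommSq (G.mapHomologicalComplex (ComplexShape.up ℤ)) DerivedCategory.Q DerivedCategory.Q
    G.mapDerivedCategory := ⟨G.mapDerivedCategoryFactors.symm⟩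
  let A : DEt.extZeroD j ⊣ DEt.restrD j :=
    (KInjLib.adjComplexes (EtShriek.extZeroAdj j) (ComplexShape.up ℤ)).localization
    DerivedCategory.Q (HomologicalComplex.quasiIso (EtCoh.Ab U) (ComplexShape.up ℤ))
    DerivedCategory.Q (HomologicalComplex.quasiIso (EtCoh.Ab X) (ComplexShape.up ℤ))
    F.mapDerivedCategory G.mapDerivedCategory
  haveI : (𝟭 (EtCoh.Ab U)).Additive := inferInstance
  let idIso : (𝟭 (EtCoh.Ab U)).mapDerivedCategory ≅ 𝟭 (DCoh.DEt U) :=
    letI : Localization.Lifting DerivedCategory.Q (HomologicalComplex.quasiIso (EtCoh.Ab U) (ComplexShape.up ℤ))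
      DerivedCategory.Q (𝟭 (DCoh.DEt U)) := ⟨Functor.rightUnitor _⟩
    Localization.liftNatIso DerivedCategory.Q (HomologicalComplex.quasiIso (EtCoh.Ab U) (ComplexShape.up ℤ))
      ((𝟭 (EtCoh.Ab U)).mapHomologicalComplex (ComplexShape.up ℤ) ⋙ DerivedCategory.Q) DerivedCategory.Q _ _
      (Functor.isoWhiskerRight (Functor.mapHomologicalComplexIdIso _ _) _ ≪≫ Functor.leftUnitor _)
  haveI := isIso_extZero_unit j
  exact ⟨A, A.isIso_unit_of_iso (compIso F G (𝟭 _) (asIso (EtShriek.extZeroAdj j).unit).symm ≪≫ idIso)⟩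

/-- Stalks inside the open are seen by the restriction. -/
theorem bijective_stalk_of_restr {U X : Scheme.{u}} (j : U ⟶ X) [IsOpenImmersion j]
    [PreservesFiniteColimits (EtShriek.restrAlong j)] {Ω : Type u} [Field Ω] [IsSepClosed Ω]
    (ζ : Spec (CommRingCat.of Ω) ⟶ U) (i : ℤ) {A B : DCoh.DEt X} (φ : A ⟶ B) (h : IsIso ((DEt.restrD j).map φ)) :
    Function.Bijective ((EtCoh.stalk (ζ ≫ j)).map ((DerivedCategory.homologyFunctor (EtCoh.Ab X) i).map φ)) := by
  let H := DerivedCategory.homologyFunctor (EtCoh.Ab X) i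
  let R := EtShriek.restrAlong j
  have h1 : IsIso ((H ⋙ R).map φ) :=
    (NatIso.isIso_map_iff (WayOut.mapDerivedHomologyIso R i).symm φ).2
      (haveI := h; inferInstanceAs (IsIso ((DerivedCategory.homologyFunctor (EtCoh.Ab U) i).map ((DEt.restrD j).map φ))))
  haveI : IsIso ((EtCoh.pull j).map (H.map φ)) := (NatIso.isIso_map_iff (restrPullIso j) _).1 h1
  have h2 : (EtCoh.stalk (ζ ≫ j)).map (H.map φ) =
      stalkPull j ζ _ ≫ (EtCoh.stalk ζ).map ((EtCoh.pull j).map (H.map φ)) ≫ inv (stalkPull j ζ _) := by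
    rw [← Category.assoc, IsIso.eq_comp_inv, stalkPull_nat]
  haveI : IsIso ((EtCoh.stalk (ζ ≫ j)).map (H.map φ)) := by rw [h2]; infer_instance
  exact ConcreteCategory.bijective_of_isIso _

variable {U P U' W : Scheme.{u}} (j : U ⟶ P) [IsOpenImmersion j] (q : W ⟶ P) [IsProper q] (j' : U' ⟶ W)
  [IsOpenImmersion j'] (qU : U' ⟶ U) (sq : IsPullback j' qU q j)
  [PreservesFiniteLimits (EtShriek.extZero j)] [PreservesFiniteLimits (EtShriek.extZero j')]
  [DCoh.HasRpushEt W q] [DCoh.HasRpushEt U' qU]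

include sq in
/-- The derived direct image of an extension by zero has no cohomology outside the open. -/
theorem isZero_stalk_outside (M : DCoh.DEt U') (a : ℤ) [M.IsGE a] (hM : ∀ i : ℤ, EtCoh.IsTorsion (DCoh.HDEt M i))
    {Ω : Type u} [Field Ω] [IsSepClosed Ω] (ξ : Spec (CommRingCat.of Ω) ⟶ P)
    (hξ : ξ (default : Spec (CommRingCat.of Ω)) ∉ Set.range j) (i : ℤ) :
    IsZero ((EtCoh.stalk ξ).obj (DCoh.HDEt ((DCoh.RpushEt W q).obj ((DEt.extZeroD j').obj M)) i)) := by
  haveI hpl : ∀ {A B : Scheme.{u}} (g : A ⟶ B), PreservesFiniteLimits (EtCoh.pull g) :=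
    fun g => EtStalk.preservesFiniteLimits_pull g
  haveI hadd : ∀ {A B : Scheme.{u}} (g : A ⟶ B), (EtCoh.pull g).Additive :=
    fun g => (EtCoh.pullPushAdj g).left_adjoint_additive
  haveI hpc : ∀ {A B : Scheme.{u}} (g : A ⟶ B), PreservesFiniteColimits (EtCoh.pull g) := fun g =>
    haveI : (EtCoh.pull g).IsLeftAdjoint := (EtCoh.pullPushAdj g).isLeftAdjoint
    inferInstance
  let S := Spec (CommRingCat.of Ω)
  let f' := pullback.snd q ξ
  let g' := pullback.fst q ξ
  haveI : DCoh.HasRpushEt (pullback q ξ) f' := hasRpushEt _ _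
  haveI : DCoh.HasRpushEt S ξ := hasRpushEt _ _
  obtain ⟨adj⟩ := nonempty_adj ξ
  haveI : ((DEt.extZeroD j').obj M).IsGE a := WayOut.isGE_mapDerivedCategory (EtShriek.extZero j') M a
  haveI := PBC24.isIso_bcMap_boundedBelow PBC24.properBC q ξ f' g' (IsPullback.of_hasPullback q ξ) adj
    ((DEt.extZeroD j').obj M) a (isTorsion_extZeroD j' hM)
  have hz : IsZero ((EtBC.pullD g').obj ((DEt.extZeroD j').obj M)) := isZero_of_homology _ fun m => by
    refine IsZero.of_iso ?_ ((WayOut.mapDerivedHomologyIso (EtCoh.pull g') m).app _)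
    refine IsZero.of_iso ?_ ((EtCoh.pull g').mapIso ((WayOut.mapDerivedHomologyIso (EtShriek.extZero j') m).app M))
    rw [isZero_iff_stalk]
    intro Ω' _ _ ζ
    refine IsZero.of_iso (stalk_extZero_isZero j' _ (ζ ≫ g') ?_) (asIso (stalkPull g' ζ _)).symm
    rintro ⟨u, hu⟩
    refine hξ ⟨qU u, ?_⟩
    rw [← Scheme.Hom.comp_apply, ← sq.w, Scheme.Hom.comp_apply, hu, ← Scheme.Hom.comp_apply, Category.assoc,
      pullback.condition, Scheme.Hom.comp_apply, Scheme.Hom.comp_apply]
    haveI : Subsingleton S := inferInstanceAs (Subsingleton (PrimeSpectrum Ω))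
    exact congrArg ξ (Subsingleton.elim (α := S) _ _)
  obtain ⟨adj'⟩ := nonempty_adj f'
  haveI := adj'.right_adjoint_additive
  have h1 : IsZero ((EtBC.pullD ξ).obj ((DCoh.RpushEt W q).obj ((DEt.extZeroD j').obj M))) :=
    ((DCoh.RpushEt (pullback q ξ) f').map_isZero hz).of_iso
      (asIso (EtBC.bcMap q ξ f' g' (IsPullback.of_hasPullback q ξ).w adj ((DEt.extZeroD j').obj M)))
  have h2 : IsZero ((EtCoh.pull ξ).obj (DCoh.HDEt ((DCoh.RpushEt W q).obj ((DEt.extZeroD j').obj M)) i)) :=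
    ((DerivedCategory.homologyFunctor (EtCoh.Ab S) i).map_isZero h1).of_iso
      ((WayOut.mapDerivedHomologyIso (EtCoh.pull ξ) i).app _).symm
  haveI : (EtCoh.stalk (𝟙 S)).PreservesZeroMorphisms := inferInstance
  exact (((EtCoh.stalk (𝟙 S)).map_isZero h2).of_iso (asIso (stalkPull ξ (𝟙 S) _))).of_iso
    (eqToIso (congrArg (fun t => (EtCoh.stalk t).obj _) (Category.id_comp ξ).symm))

include sq in
/-- `j_! Rq_U* = Rq_* j'_!` over the preimage of an open. -/
theorem nonempty_extZeroD_Rpush (M : DCoh.DEt U') (a : ℤ) [M.IsGE a]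
    (hM : ∀ i : ℤ, EtCoh.IsTorsion (DCoh.HDEt M i)) :
    Nonempty ((DEt.extZeroD j).obj ((DCoh.RpushEt U' qU).obj M) ≅
      (DCoh.RpushEt W q).obj ((DEt.extZeroD j').obj M)) := by
  haveI hpl : ∀ {A B : Scheme.{u}} (g : A ⟶ B), PreservesFiniteLimits (EtCoh.pull g) :=
    fun g => EtStalk.preservesFiniteLimits_pull g
  haveI hadd : ∀ {A B : Scheme.{u}} (g : A ⟶ B), (EtCoh.pull g).Additive :=
    fun g => (EtCoh.pullPushAdj g).left_adjoint_additive
  haveI hpc : ∀ {A B : Scheme.{u}} (g : A ⟶ B), PreservesFiniteColimits (EtCoh.pull g) := fun g =>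
    haveI : (EtCoh.pull g).IsLeftAdjoint := (EtCoh.pullPushAdj g).isLeftAdjoint
    inferInstance
  obtain ⟨aq⟩ := nonempty_adj q
  obtain ⟨aU⟩ := nonempty_adj qU
  haveI := preservesFiniteColimits_restrAlong j
  haveI := preservesFiniteColimits_restrAlong j'
  obtain ⟨A, u⟩ := exists_adj_extZeroD j
  obtain ⟨A', u'⟩ := exists_adj_extZeroD j'
  let R := DEt.restrD j
  let T := (DCoh.RpushEt W q).obj ((DEt.extZeroD j').obj M)
  let bc : EtShriek.extZero j ⋙ EtCoh.pull q ≅ EtCoh.pull qU ⋙ EtShriek.extZero j' :=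
    (ExtShriek24.extZeroBC j q j' qU sq).symm
  haveI : (EtCoh.pull qU ⋙ EtShriek.extZero j').Additive := inferInstance
  haveI : PreservesFiniteLimits (EtCoh.pull qU ⋙ EtShriek.extZero j') := comp_preservesFiniteLimits _ _
  haveI : PreservesFiniteColimits (EtCoh.pull qU ⋙ EtShriek.extZero j') := comp_preservesFiniteColimits _ _
  let β : DEt.extZeroD j ⋙ EtBC.pullD q ≅ EtBC.pullD qU ⋙ DEt.extZeroD j' :=
    compIso (EtShriek.extZero j) (EtCoh.pull q) _ bc ≪≫
      (compIso (EtCoh.pull qU) (EtShriek.extZero j') _ (Iso.refl _)).symm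
  haveI : IsIso A'.unit := u'
  let F' := A'.fullyFaithfulLOfIsIsoUnit
  let E : ∀ N : DCoh.DEt U, (N ⟶ R.obj T) ≃ (N ⟶ (DCoh.RpushEt U' qU).obj M) := fun N =>
    (((A.homEquiv N T).symm.trans (aq.homEquiv _ _).symm).trans (β.app N).homFromEquiv).trans
      (F'.homEquiv.symm.trans (aU.homEquiv _ _))
  have hE : ∀ {N N' : DCoh.DEt U} (φ : N' ⟶ N) (g : N ⟶ R.obj T), E N' (φ ≫ g) = φ ≫ E N g := by
    intro N N' φ g
    simp only [E, Equiv.trans_apply]
    rw [Adjunction.homEquiv_naturality_left_symm, Adjunction.homEquiv_naturality_left_symm]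
    rw [← Adjunction.homEquiv_naturality_left]
    refine congrArg _ (F'.map_injective ?_)
    refine (F'.homEquiv.apply_symm_apply _).trans (Eq.symm ?_)
    refine ((DEt.extZeroD j').map_comp _ _).trans
      ((congrArg ((DEt.extZeroD j').map ((EtBC.pullD qU).map φ) ≫ ·) (F'.homEquiv.apply_symm_apply _)).trans ?_)
    exact (Category.assoc _ _ _).symm.trans
      ((congrArg (fun z => z ≫ (aq.homEquiv _ _).symm ((A.homEquiv N T).symm g)) (β.inv.naturality φ)).trans
        (Category.assoc _ _ _))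
  let e : R.obj T ≅ (DCoh.RpushEt U' qU).obj M :=
    Yoneda.ext _ _ (fun {Z} g => E Z g) (fun {Z} g => (E Z).symm g) (fun g => Equiv.symm_apply_apply _ g)
      (fun g => Equiv.apply_symm_apply _ g) (fun φ g => hE φ g)
  suffices IsIso (A.counit.app T) from ⟨(DEt.extZeroD j).mapIso e.symm ≪≫ @asIso _ _ _ _ (A.counit.app T) this⟩
  rw [DerivedCategory.isIso_iff]
  intro i
  rw [isIso_iff_stalk]
  intro Ω _ _ ξ
  by_cases hξ : ξ (default : Spec (CommRingCat.of Ω)) ∈ Set.range j
  · obtain ⟨ζ, rfl⟩ := exists_lift_point_open j ξ hξ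
    have hR : IsIso (R.map (A.counit.app T)) :=
      haveI := u
      IsIso.of_isIso_fac_left (A.right_triangle_components T)
    exact bijective_stalk_of_restr j ζ i (A.counit.app T) hR
  · have hz1 : IsZero ((EtCoh.stalk ξ).obj (DCoh.HDEt ((DEt.extZeroD j).obj (R.obj T)) i)) :=
      (stalk_extZero_isZero j _ ξ hξ).of_iso
        ((EtCoh.stalk ξ).mapIso ((WayOut.mapDerivedHomologyIso (EtShriek.extZero j) i).app _))
    have hz2 := isZero_stalk_outside j q j' qU sq M a hM ξ hξ i
    haveI := isIso_of_source_target_iso_zero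
      ((EtCoh.stalk ξ).map ((DerivedCategory.homologyFunctor (EtCoh.Ab P) i).map (A.counit.app T))) hz1.isoZero hz2.isoZero
    exact ConcreteCategory.bijective_of_isIso _

end Groth.Agent.PBCShriek6
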